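import Mathlib
import Groth.Prelude.Def_W4sga3xxiRoot

/-! Integral positivity and cones in a finite crystallographic root pairing (possibly non-reduced). -/

set_option autoImplicit false

open Function Set

namespace Groth.Agent.RootDLib

variable {ι R M N : Type*} [CommRing R] [AddCommGroup M] [Module R M] [AddCommGroup N] [Module R N]
  (P : RootPairing ι R M N)

/-- The index of the opposite root. -/
def ng (i : ι) : ι := P.reflectionPerm i i

@[simp] theorem root_ng (i : ι) : P.root (ng P i) = -P.root i := by simp [ng]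

@[simp] theorem ng_ng (i : ι) : ng P (ng P i) = i := P.root.injective (by simp)

@[simp] theorem coroot_ng (i : ι) : P.coroot (ng P i) = -P.coroot i := by simp [ng]

theorem root_mem_natSpan {S : Set ι} {i : ι} (h : i ∈ S) : P.root i ∈ RootD.natSpan P S :=
  AddSubmonoid.subset_closure ⟨i, h, rfl⟩

theorem natSpan_mono {S T : Set ι} (h : S ⊆ T) : RootD.natSpan P S ≤ RootD.natSpan P T :=
  AddSubmonoid.closure_mono (image_mono h)

theorem natSpan_le {S T : Set ι} (h : ∀ i ∈ S, P.root i ∈ RootD.natSpan P T) :
    RootD.natSpan P S ≤ RootD.natSpan P T :=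
  AddSubmonoid.closure_le.2 (by rintro _ ⟨i, hi, rfl⟩; exact h i hi)

/-- A linear combination of roots with integer coefficients. -/
noncomputable def comb : (ι →₀ ℤ) →ₗ[ℤ] M := Finsupp.linearCombination ℤ P.root

@[simp] theorem comb_single (i : ι) (n : ℤ) : comb P (Finsupp.single i n) = n • P.root i := by simp [comb]

theorem mem_natSpan_iff {S : Set ι} {x : M} :
    x ∈ RootD.natSpan P S ↔ ∃ c : ι →₀ ℤ, ↑c.support ⊆ S ∧ (∀ i, 0 ≤ c i) ∧ comb P c = x := by
  classical
  constructor
  · intro hx
    induction hx using AddSubmonoid.closure_induction with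
    | mem y hy =>
      obtain ⟨i, hi, rfl⟩ := hy
      refine ⟨Finsupp.single i 1, ?_, fun j => ?_, by simp⟩
      · exact (Finset.coe_subset.2 Finsupp.support_single_subset).trans (by simpa using hi)
      · rw [Finsupp.single_apply]; split <;> simp
    | zero => exact ⟨0, by simp, by simp, by simp⟩
    | add y z _ _ hy hz =>
      obtain ⟨c, hc, hc0, rfl⟩ := hy
      obtain ⟨d, hd, hd0, rfl⟩ := hz
      refine ⟨c + d, ?_, fun i => add_nonneg (hc0 i) (hd0 i), map_add _ _ _⟩
      exact (Finset.coe_subset.2 Finsupp.support_add).trans (by simpa using ⟨hc, hd⟩)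
  · rintro ⟨c, hc, hc0, rfl⟩
    rw [comb, Finsupp.linearCombination_apply]
    refine AddSubmonoid.sum_mem _ fun i hi => ?_
    show c i • P.root i ∈ RootD.natSpan P S
    rw [← Int.toNat_of_nonneg (hc0 i), natCast_zsmul]
    exact nsmul_mem (root_mem_natSpan P (hc hi)) _

section Positivity

variable [CharZero R] [IsDomain R] [P.IsCrystallographic] [Finite ι]

include P in
theorem isTorsionFree : Module.IsTorsionFree R M :=
  have : Module.IsReflexive R M := .of_isPerfPair P.toLinearMap
  inferInstance

include P in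
theorem isAddTorsionFree : IsAddTorsionFree M :=
  have := isTorsionFree P
  .of_isTorsionFree R M

include P in
theorem zsmul_eq_zero {n : ℤ} {x : M} (hn : n ≠ 0) (h : n • x = 0) : x = 0 := by
  have := isAddTorsionFree P
  exact (smul_eq_zero.1 h).resolve_left hn

theorem root_ne_zero (i : ι) : P.root i ≠ 0 := P.ne_zero i

theorem ng_ne (i : ι) : ng P i ≠ i := fun h => P.ne_neg i h.symm

/-- The integral inner product of two roots. -/
noncomputable def q [Fintype ι] (i j : ι) : ℤ := ∑ k, P.pairingIn ℤ i k * P.pairingIn ℤ j k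

theorem algebraMap_q [Fintype ι] (i j : ι) : (q P i j : R) = P.RootForm (P.root i) (P.root j) := by
  rw [q, RootPairing.rootForm_apply_apply, Int.cast_sum]
  refine Finset.sum_congr rfl fun k _ => ?_
  rw [Int.cast_mul, ← eq_intCast (algebraMap ℤ R), ← eq_intCast (algebraMap ℤ R), P.algebraMap_pairingIn,
    P.algebraMap_pairingIn]
  simp

theorem q_self_pos [Fintype ι] (i : ι) : 0 < q P i i :=
  Finset.sum_pos' (fun k _ => mul_self_nonneg _) ⟨i, Finset.mem_univ _, by simp⟩

theorem two_mul_q [Fintype ι] (i j : ι) : 2 * q P i j = P.pairingIn ℤ i j * q P j j := by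
  have h := (P.posRootForm ℤ).two_mul_apply_root_root i j
  have e : (P.posRootForm ℤ).form = P.RootForm := rfl
  rw [e, ← algebraMap_q, ← algebraMap_q, ← P.algebraMap_pairingIn ℤ, eq_intCast] at h
  exact_mod_cast h

theorem q_pos_iff [Fintype ι] (i j : ι) : 0 < q P i j ↔ 0 < P.pairingIn ℤ i j := by
  have h := two_mul_q P i j
  constructor <;> intro hp
  · by_contra hc
    nlinarith [mul_nonpos_of_nonpos_of_nonneg (not_lt.1 hc) (q_self_pos P j).le]
  · nlinarith [mul_pos hp (q_self_pos P j)]

theorem q_nonpos_iff [Fintype ι] (i j : ι) : q P i j ≤ 0 ↔ P.pairingIn ℤ i j ≤ 0 := by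
  simpa only [not_lt] using (q_pos_iff P i j).not

/-- Positive definiteness: a combination of norm at most zero vanishes. -/
theorem comb_eq_zero_of_nonpos [Fintype ι] (c d : ι →₀ ℤ) (hcd : comb P c = comb P d)
    (h : ∑ i, ∑ j, c i * d j * q P i j ≤ 0) : comb P c = 0 := by
  let t : (ι →₀ ℤ) → ι → ℤ := fun c k => ∑ i, c i * P.pairingIn ℤ i k
  have ht : ∀ (c : ι →₀ ℤ) k, P.coroot' k (comb P c) = (t c k : R) := fun c k => by
    rw [comb, Finsupp.linearCombination_apply,
      Finsupp.sum_fintype _ _ (fun i => zero_smul ℤ (P.root i)), map_sum, Int.cast_sum]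
    refine Finset.sum_congr rfl fun i _ => ?_
    rw [map_zsmul, zsmul_eq_mul, Int.cast_mul, ← eq_intCast (algebraMap ℤ R) (P.pairingIn ℤ i k),
      P.algebraMap_pairingIn]
    simp
  have htt : t c = t d := funext fun k => by
    have := (ht c k).symm.trans ((congrArg (P.coroot' k) hcd).trans (ht d k))
    exact_mod_cast this
  have hs : ∑ k, t c k * t d k = ∑ i, ∑ j, c i * d j * q P i j := by
    simp only [t, q, Finset.sum_mul_sum]
    rw [Finset.sum_comm]
    refine Finset.sum_congr rfl fun i _ => ?_
    rw [Finset.sum_comm]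
    refine Finset.sum_congr rfl fun j _ => ?_
    rw [Finset.mul_sum]
    refine Finset.sum_congr rfl fun k _ => ?_
    ring
  rw [← htt] at hs
  have h0 : ∀ k, t c k = 0 := fun k => mul_self_eq_zero.1 <| le_antisymm
    ((Finset.single_le_sum (f := fun k => t c k * t c k) (fun k _ => mul_self_nonneg _)
      (Finset.mem_univ k)).trans (hs.le.trans h)) (mul_self_nonneg _)
  refine Submodule.disjoint_def.1 P.disjoint_rootSpan_ker_rootForm _ ?_ ?_
  · rw [comb, Finsupp.linearCombination_apply]
    exact Submodule.sum_mem _ fun i _ => Submodule.smul_of_tower_mem _ _ (Submodule.subset_span ⟨i, rfl⟩)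
  · refine LinearMap.mem_ker.2 (LinearMap.ext fun y => ?_)
    simp [RootPairing.rootForm_apply_apply, ht, h0]

theorem exists_root_sub {i j : ι} (h : 0 < P.pairingIn ℤ i j) (hij : i ≠ j) :
    ∃ k, P.root k = P.root i - P.root j :=
  P.root_sub_root_mem_of_pairingIn_pos h hij

theorem q_comm [Fintype ι] (i j : ι) : q P i j = q P j i := Finset.sum_congr rfl fun _ _ => mul_comm _ _

/-- Some summand of a positive combination is acute to it. -/
theorem exists_pos_of_comb [Fintype ι] {k : ι} {n : ℤ} (hn : 0 < n) {c : ι →₀ ℤ} (h0 : ∀ i, 0 ≤ c i)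
    (h : comb P c = n • P.root k) : ∃ a, 0 < c a ∧ 0 < P.pairingIn ℤ a k ∧ 0 < P.pairingIn ℤ k a := by
  classical
  by_contra hne
  simp only [not_exists, not_and, not_lt] at hne
  have hk : comb P (Finsupp.single k n) = 0 := by
    refine comb_eq_zero_of_nonpos P (Finsupp.single k n) c (by rw [comb_single, h]) ?_
    refine Finset.sum_nonpos fun b _ => Finset.sum_nonpos fun j _ => ?_
    by_cases hb : b = k
    · subst hb
      rcases (h0 j).eq_or_lt with hj | hj
      · simp [← hj]
      refine mul_nonpos_of_nonneg_of_nonpos (mul_nonneg (by simpa using hn.le) hj.le) ?_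
      by_contra hq
      have hq' : 0 < q P j b := q_comm P b j ▸ not_le.1 hq
      exact (not_le.2 ((q_pos_iff P b j).1 (not_le.1 hq))) (hne j hj ((q_pos_iff P j b).1 hq'))
    · simp [Finsupp.single_eq_of_ne hb]
  rw [comb_single] at hk
  exact P.ne_zero k (zsmul_eq_zero P hn.ne' hk)

/-- A closed set of roots contains every root which is a sum of members. -/
theorem mem_of_closed {T : Set ι} (hc : RootD.IsClosedSub P T) {k : ι} (h : P.root k ∈ RootD.natSpan P T) :
    k ∈ T := by
  classical
  haveI := Fintype.ofFinite ι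
  obtain ⟨c, hs, h0, he⟩ := (mem_natSpan_iff P).1 h
  generalize hm : (∑ i, c i).toNat = m
  induction m using Nat.strong_induction_on generalizing c k with
  | _ m ih =>
    obtain ⟨a, hca, -, hp⟩ := exists_pos_of_comb P one_pos h0 (by rw [he, one_zsmul])
    have ha : a ∈ T := hs (Finsupp.mem_support_iff.2 hca.ne')
    by_cases hka : k = a
    · exact hka ▸ ha
    obtain ⟨l, hl⟩ := exists_root_sub P hp hka
    let d := c - Finsupp.single a 1
    have hd0 : ∀ i, 0 ≤ d i := fun i => by
      by_cases hi : i = a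
      · subst hi; simp [d]; omega
      · simp [d, Finsupp.single_eq_of_ne hi, h0 i]
    have hds : ↑d.support ⊆ T := fun i hi => by
      by_cases hia : i = a
      · exact hia ▸ ha
      · exact hs (Finsupp.mem_support_iff.2 (by simpa [d, Finsupp.single_eq_of_ne hia] using hi))
    have hde : comb P d = P.root l := by rw [map_sub, he, comb_single, one_zsmul, hl]
    have hsum : ∑ i, d i = (∑ i, c i) - 1 := by simp [d, Finset.sum_sub_distrib]
    have hpos : 0 < ∑ i, c i := Finset.sum_pos' (fun i _ => h0 i) ⟨a, Finset.mem_univ a, hca⟩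
    exact hc ha (ih _ (by omega) ((mem_natSpan_iff P).2 ⟨d, hds, hd0, hde⟩) d hds hd0 hde rfl)
      (by rw [hl]; abel)

/-- Roots on a line. -/
theorem cases_of_not_linearIndependent {i j : ι} (h : ¬ LinearIndependent R ![P.root i, P.root j]) :
    P.root j = P.root i ∨ P.root j = -P.root i ∨ P.root j = (2 : ℤ) • P.root i ∨
      P.root j = -((2 : ℤ) • P.root i) ∨ P.root i = (2 : ℤ) • P.root j ∨ P.root i = -((2 : ℤ) • P.root j) := by
  have := isTorsionFree P
  have h4 := (P.coxeterWeightIn_eq_four_iff_not_linearIndependent ℤ).2 h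
  have h2 := P.pairing_smul_root_eq_of_not_linearIndependent h
  rw [← P.algebraMap_pairingIn ℤ, algebraMap_smul, show (2 : R) = algebraMap ℤ R 2 by simp,
    algebraMap_smul] at h2
  have key : ∀ {a : ℤ} {x y : M}, (2 : ℤ) • x = (2 * a) • y → x = a • y := fun {a x y} e => by
    rw [mul_smul] at e
    exact sub_eq_zero.1 (zsmul_eq_zero P two_ne_zero (by rw [smul_sub, e, sub_self]))
  simp only [RootPairing.coxeterWeightIn] at h4
  have hp : P.pairingIn ℤ j i = 1 ∨ P.pairingIn ℤ j i = 2 ∨ P.pairingIn ℤ j i = 4 ∨ P.pairingIn ℤ j i = -1 ∨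
      P.pairingIn ℤ j i = -2 ∨ P.pairingIn ℤ j i = -4 := by
    have h5 : (P.pairingIn ℤ j i).natAbs ∈ Nat.divisors 4 :=
      Nat.mem_divisors.2 ⟨(Int.natAbs_dvd_natAbs (b := 4)).2 (Dvd.intro_left _ h4), by norm_num⟩
    rw [show Nat.divisors 4 = {1, 2, 4} by decide] at h5
    simp only [Finset.mem_insert, Finset.mem_singleton] at h5
    omega
  rcases hp with e | e | e | e | e | e <;> rw [e] at h2
  · exact .inr <| .inr <| .inr <| .inr <| .inl <| by simpa using h2
  · exact .inl (by simpa using key (a := 1) h2.symm)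
  · exact .inr <| .inr <| .inl (key (a := 2) h2.symm)
  · exact .inr <| .inr <| .inr <| .inr <| .inr <| by rw [← h2]; simp
  · exact .inr <| .inl (by simpa using key (a := -1) h2.symm)
  · exact .inr <| .inr <| .inr <| .inl (by simpa using key (a := -2) h2.symm)

end Positivity

end Groth.Agent.RootDLib
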