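import Groth.Agent.RootDLib.Weyl

/-! The exchange property gives the Coxeter presentation. -/

set_option autoImplicit false

namespace Groth.Agent.RootDLib.Cox

section Abstract

variable {B G H : Type*} [Group G] [Group H]

/-- The product of a word. -/
def prd (f : B → G) (l : List B) : G := (l.map f).prod

theorem prd_append (f : B → G) (l m : List B) : prd f (l ++ m) = prd f l * prd f m := by
  simp [prd]

theorem prd_singleton (f : B → G) (a : B) : prd f [a] = f a := by simp [prd]

theorem prd_cons (f : B → G) (a : B) (l : List B) : prd f (a :: l) = f a * prd f l := by simp [prd]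

/-- The word ending in `a` and alternating between `a` and `b`. -/
def alt : B → B → ℕ → List B
  | _, _, 0 => []
  | a, b, n + 1 => alt b a n ++ [a]

theorem length_alt : ∀ (a b : B) (n : ℕ), (alt a b n).length = n
  | _, _, 0 => rfl
  | a, b, n + 1 => by simp [alt, length_alt b a n]

theorem alt_suffix : ∀ (a b : B) (n : ℕ), alt a b n <:+ alt a b (n + 1)
  | _, _, 0 => List.nil_suffix
  | a, b, n + 1 => by
    obtain ⟨x, hx⟩ := alt_suffix b a n
    exact ⟨x, by rw [alt, ← List.append_assoc, hx]; rfl⟩

theorem suffix_tail {s l : List B} (h : s <:+ l) (hl : s.length < l.length) : s <:+ l.tail := by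
  obtain ⟨x, rfl⟩ := h
  cases x with
  | nil => simp at hl
  | cons c x => exact ⟨x, rfl⟩

theorem prd_alt {f : B → G} (hf : ∀ a, f a * f a = 1) :
    ∀ (a b : B) (n : ℕ), (prd f (alt a b n))⁻¹ * prd f (alt b a n) = (f a * f b) ^ n
  | a, b, 0 => by simp [alt, prd]
  | a, b, n + 1 => by
    have hia : (f a)⁻¹ = f a := inv_eq_of_mul_eq_one_right (hf a)
    rw [alt, alt, prd_append, prd_append, prd_singleton, prd_singleton, mul_inv_rev, hia,
      mul_assoc (f a), ← mul_assoc _ _ (f b), prd_alt hf b a n]
    clear hia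
    induction n with
    | zero => simp
    | succ m ih => rw [pow_succ' (f a * f b), ← ih, pow_succ']; simp only [mul_assoc]

/-- A word which is shortest among those with its product. -/
def Red (f : B → G) (l : List B) : Prop := ∀ m, prd f m = prd f l → l.length ≤ m.length

theorem Red.front {f : B → G} {t : List B} {a : B} (h : Red f (t ++ [a])) : Red f t := fun m hm => by
  simpa using h (m ++ [a]) (by rw [prd_append, prd_append, hm])

theorem Red.back {f : B → G} {t : List B} {a : B} (h : Red f (a :: t)) : Red f t := fun m hm => by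
  simpa using h (a :: m) (by rw [prd_cons, prd_cons, hm])

theorem Red.of_eq {f : B → G} {l m : List B} (h : Red f l) (hp : prd f m = prd f l) (hl : m.length = l.length) :
    Red f m := fun r hr => hl.trans_le (h r (hr.trans hp))

/-- The exchange property. -/
structure Exch (f : B → G) (Pos : G → B → Prop) : Prop where
  inv : ∀ a, f a * f a = 1
  dich : ∀ g a, Pos (g * f a) a ↔ ¬ Pos g a
  exch : ∀ (l : List B) (a : B), ¬ Pos (prd f l) a → ∃ j < l.length, prd f (l.eraseIdx j) = prd f l * f a

variable {f : B → G} {Pos : G → B → Prop} {s : B → H}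

theorem Exch.pos_front (E : Exch f Pos) {t : List B} {a : B} (h : Red f (t ++ [a])) : Pos (prd f t) a := by
  by_contra hn
  obtain ⟨j, hj, e⟩ := E.exch t a hn
  have := h (t.eraseIdx j) (by rw [e, prd_append, prd_singleton])
  rw [List.length_eraseIdx_of_lt hj, List.length_append] at this
  simp at this
  omega

/-- Two shortest words of the same length and product, differing in the second group. -/
def Bad (f : B → G) (s : B → H) (n : ℕ) (u v : List B) : Prop :=
  u.length = n ∧ v.length = n ∧ Red f u ∧ Red f v ∧ prd f u = prd f v ∧ prd s u ≠ prd s v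

theorem Bad.symm {n : ℕ} {u v : List B} (h : Bad f s n u v) : Bad f s n v u :=
  ⟨h.2.1, h.1, h.2.2.2.1, h.2.2.1, h.2.2.2.2.1.symm, h.2.2.2.2.2.symm⟩

theorem Exch.step (E : Exch f Pos) {n : ℕ}
    (ih : ∀ l l' : List B, l.length = n → l'.length = n → Red f l → Red f l' →
      prd f l = prd f l' → prd s l = prd s l')
    {t v : List B} {a : B} (h : Bad f s (n + 1) (t ++ [a]) v) : Bad f s (n + 1) (v.tail ++ [a]) v := by
  obtain ⟨hu, hv, ru, rv, he, hne⟩ := h
  have hn : ¬ Pos (prd f v) a := by
    rw [← he, prd_append, prd_singleton, E.dich]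
    exact not_not.2 (E.pos_front ru)
  obtain ⟨j, hj, ej⟩ := E.exch v a hn
  have ht : t.length = n := by simpa using hu
  have hl : (v.eraseIdx j).length = n := by rw [List.length_eraseIdx_of_lt hj]; omega
  have et : prd f t = prd f (v.eraseIdx j) := by
    rw [ej, ← he, prd_append, prd_singleton, mul_assoc, E.inv, mul_one]
  have hs : prd s t = prd s (v.eraseIdx j) :=
    ih _ _ ht hl ru.front (ru.front.of_eq et.symm (hl.trans ht.symm)) et
  have ew : prd f (v.eraseIdx j ++ [a]) = prd f v := by
    rw [← he, prd_append, prd_append, et]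
  have rw' : Red f (v.eraseIdx j ++ [a]) := rv.of_eq ew (by simp [hl, hv])
  have hne' : prd s (v.eraseIdx j ++ [a]) ≠ prd s v := by
    rwa [prd_append, ← hs, ← prd_append]
  cases v with
  | nil => simp at hj
  | cons c r =>
    cases j with
    | zero => exact ⟨by simpa using hl, hv, by simpa using rw', rv, by simpa using ew, by simpa using hne'⟩
    | succ i =>
      refine absurd ?_ hne'
      rw [List.eraseIdx_cons_succ, List.cons_append, prd_cons, prd_cons] at ew ⊢
      rw [List.eraseIdx_cons_succ, List.cons_append] at rw'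
      rw [ih _ r ?_ ?_ rw'.back rv.back (mul_left_cancel ew)]
      · simp [List.eraseIdx_cons_succ] at hl ⊢
        omega
      · simpa using hv

theorem Exch.red_eq (E : Exch f Pos) (hs : ∀ a, s a * s a = 1)
    (hrel : ∀ a b (n : ℕ), (f a * f b) ^ n = 1 → (s a * s b) ^ n = 1) :
    ∀ (n : ℕ) (l l' : List B), l.length = n → l'.length = n → Red f l → Red f l' →
      prd f l = prd f l' → prd s l = prd s l'
  | 0, l, l', hl, hl', _, _, _ => by
    rw [List.length_eq_zero_iff.1 hl, List.length_eq_zero_iff.1 hl']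
  | n + 1, l, l', hl, hl', rl, rl', he => by
    have ih := Exch.red_eq E hs hrel n
    by_contra hne
    obtain ⟨t, a, rfl⟩ : ∃ t a, l = t ++ [a] :=
      ⟨l.dropLast, l.getLast (by rintro rfl; simp at hl), (List.dropLast_append_getLast _).symm⟩
    obtain ⟨t', b, rfl⟩ : ∃ t b, l' = t ++ [b] :=
      ⟨l'.dropLast, l'.getLast (by rintro rfl; simp at hl'), (List.dropLast_append_getLast _).symm⟩
    have key : ∀ k ≤ n, ∃ u v, Bad f s (n + 1) u v ∧ alt a b (k + 1) <:+ u ∧ alt b a (k + 1) <:+ v := by
      intro k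
      induction k with
      | zero =>
        exact fun _ => ⟨_, _, ⟨hl, hl', rl, rl', he, hne⟩, ⟨t, rfl⟩, ⟨t', rfl⟩⟩
      | succ k ihk =>
        intro hk
        obtain ⟨u, v, hb, ⟨x, hx⟩, hv⟩ := ihk (Nat.le_of_succ_le hk)
        rw [alt, ← List.append_assoc] at hx
        subst hx
        have h1 := E.step ih hb
        have hv1 : alt b a (k + 1) <:+ v.tail := suffix_tail hv (by rw [length_alt, hb.2.1]; omega)
        obtain ⟨y, hy⟩ := hv
        rw [alt, ← List.append_assoc] at hy
        subst hy
        have h2 := E.step ih h1.symm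
        obtain ⟨w, hw⟩ := hv1
        have hs2 : alt a b (k + 2) <:+ ((y ++ alt a b k) ++ [b]).tail ++ [a] :=
          ⟨w, by rw [alt, ← List.append_assoc, hw]⟩
        refine ⟨_, _, h2.symm, hs2, ?_⟩
        obtain ⟨z, hz⟩ := suffix_tail ((alt_suffix a b (k + 1)).trans hs2)
          (by rw [length_alt, h1.1]; omega)
        exact ⟨z, by rw [alt, ← List.append_assoc, hz]⟩
    obtain ⟨u, v, hb, hu, hv⟩ := key n le_rfl
    obtain rfl := hu.eq_of_length (by rw [length_alt, hb.1])
    obtain rfl := hv.eq_of_length (by rw [length_alt, hb.2.1])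
    have h1 := prd_alt E.inv a b (n + 1)
    rw [hb.2.2.2.2.1, inv_mul_cancel] at h1
    have h2 := prd_alt hs a b (n + 1)
    rw [hrel a b _ h1.symm, inv_mul_eq_one] at h2
    exact hb.2.2.2.2.2 h2

theorem Exch.exists_red (E : Exch f Pos) (hs : ∀ a, s a * s a = 1)
    (hrel : ∀ a b (n : ℕ), (f a * f b) ^ n = 1 → (s a * s b) ^ n = 1) (l : List B) :
    ∃ m, Red f m ∧ prd f m = prd f l ∧ prd s m = prd s l := by
  induction l using List.reverseRecOn with
  | nil => exact ⟨[], fun m _ => Nat.zero_le _, rfl, rfl⟩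
  | append_singleton l a ih =>
    obtain ⟨m, hm, e1, e2⟩ := ih
    by_cases hp : Pos (prd f m) a
    · refine ⟨m ++ [a], fun r hr => ?_, by rw [prd_append, prd_append, e1], by rw [prd_append, prd_append, e2]⟩
      rw [prd_append, prd_singleton] at hr
      obtain ⟨j, hj, ej⟩ := E.exch r a (by rw [hr, E.dich]; exact not_not.2 hp)
      have := hm (r.eraseIdx j) (by rw [ej, hr, mul_assoc, E.inv, mul_one])
      rw [List.length_eraseIdx_of_lt hj] at this
      simp
      omega
    · obtain ⟨j, hj, ej⟩ := E.exch m a hp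
      have hlen : (m.eraseIdx j ++ [a]).length = m.length := by
        rw [List.length_append, List.length_eraseIdx_of_lt hj]
        simp
        omega
      have e3 : prd f (m.eraseIdx j ++ [a]) = prd f m := by
        rw [prd_append, prd_singleton, ej, mul_assoc, E.inv, mul_one]
      have r3 := hm.of_eq e3 hlen
      have e4 := E.red_eq hs hrel _ _ m hlen rfl r3 hm e3
      refine ⟨m.eraseIdx j, r3.front, by rw [ej, prd_append, prd_singleton, e1], ?_⟩
      rw [prd_append, prd_singleton, ← e2, ← e4, prd_append, prd_singleton, mul_assoc, hs, mul_one]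

theorem Exch.eq_one (E : Exch f Pos) (hs : ∀ a, s a * s a = 1)
    (hrel : ∀ a b (n : ℕ), (f a * f b) ^ n = 1 → (s a * s b) ^ n = 1) {l : List B} (h : prd f l = 1) :
    prd s l = 1 := by
  obtain ⟨m, hm, e1, e2⟩ := E.exists_red hs hrel l
  have := hm [] (by rw [e1, h]; rfl)
  have hm0 : m = [] := List.length_eq_zero_iff.1 (Nat.le_zero.1 (by simpa using this))
  rw [← e2, hm0]
  rfl

end Abstract

section Roots

open RootPairing

variable {ι R M N : Type*} [CommRing R] [AddCommGroup M] [Module R M] [AddCommGroup N] [Module R N]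
  {P : RootPairing ι R M N} [CharZero R] [IsDomain R] [P.IsCrystallographic] [Finite ι] {Δ : Set ι}

theorem exch_refl (hΔ : IsSimple P Δ) :
    Exch (fun a : Δ => refl P (a : ι)) (fun g a => g • (a : ι) ∈ RootD.posOf P Δ) where
  inv a := refl_mul_self P a
  dich g a := by
    rw [mul_smul, refl_self, smul_ng]
    exact ng_mem_iff hΔ.isPosSys
  exch l a h := by
    induction l with
    | nil => exact absurd (show (a : ι) ∈ RootD.posOf P Δ from root_mem_natSpan P a.2) (by simpa [prd] using h)
    | cons c t ih =>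
      rw [prd_cons, mul_smul] at h
      by_cases hq : prd (fun a : Δ => refl P (a : ι)) t • (a : ι) ∈ RootD.posOf P Δ
      · refine ⟨0, Nat.succ_pos _, ?_⟩
        have e : prd (fun a : Δ => refl P (a : ι)) t • (a : ι) = c := by
          by_contra hne
          exact h (hΔ.refl_mem_posOf c.2 hq hne (indiv_smul P (hΔ.indiv a.2) _ c))
        rw [List.eraseIdx_cons_zero, prd_cons, ← e, ← conj_refl]
        simp only [inv_mul_cancel, mul_one, mul_assoc, refl_mul_self, inv_mul_cancel_left]
      · obtain ⟨j, hj, ej⟩ := ih hq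
        exact ⟨j + 1, Nat.succ_lt_succ hj, by rw [List.eraseIdx_cons_succ, prd_cons, prd_cons, ej, mul_assoc]⟩

theorem refl_injective (hΔ : IsSimple P Δ) {a b : Δ} (h : refl P (a : ι) = refl P (b : ι)) : a = b := by
  by_contra hne
  have h1 : refl P (b : ι) • (a : ι) ∈ RootD.posOf P Δ :=
    hΔ.refl_mem_posOf b.2 (root_mem_natSpan P a.2) (fun e => hne (Subtype.ext e)) (hΔ.indiv a.2 b)
  rw [← h, refl_self] at h1
  exact (ng_mem_iff hΔ.isPosSys).1 h1 (root_mem_natSpan P a.2)

/-- The Coxeter matrix of a simple system. -/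
noncomputable def matrix (hΔ : IsSimple P Δ) : CoxeterMatrix Δ where
  M := Matrix.of fun a b => orderOf (refl P (a : ι) * refl P (b : ι))
  isSymm := Matrix.IsSymm.ext fun a b => by
    rw [Matrix.of_apply, Matrix.of_apply, ← orderOf_inv, mul_inv_rev, Equiv.reflection_inv, Equiv.reflection_inv]
  diagonal a := by
    rw [Matrix.of_apply, refl_mul_self, orderOf_one]
  off_diagonal a b hab := by
    simp only [Matrix.of_apply, ne_eq, orderOf_eq_one_iff]
    intro h
    exact hab (refl_injective hΔ ((mul_eq_one_iff_eq_inv.1 h).trans (Equiv.reflection_inv P (b : ι))))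

/-- The Weyl group is presented by the simple reflections. -/
theorem exists_system (hΔ : IsSimple P Δ) :
    ∃ cs : CoxeterSystem (matrix hΔ) P.weylGroup, ∀ a, ((cs.simple a : P.weylGroup) : P.Aut) = refl P (a : ι) := by
  set C := matrix hΔ with hC
  let f : Δ → P.weylGroup := fun a => ⟨refl P (a : ι), P.reflection_mem_weylGroup _⟩
  have hf : C.IsLiftable f := fun a b => Subtype.ext (by simpa [f, hC, matrix] using pow_orderOf_eq_one _)
  let cs₀ := C.toCoxeterSystem
  let φ : C.Group →* P.weylGroup := cs₀.lift ⟨f, hf⟩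
  have hφ : ∀ a, φ (cs₀.simple a) = f a := fun a => cs₀.lift_apply_simple hf a
  have hval : ∀ l : List Δ, ((φ (prd cs₀.simple l) : P.weylGroup) : P.Aut) = prd (fun a : Δ => refl P (a : ι)) l := by
    intro l
    induction l with
    | nil => simp [prd]
    | cons a l ih => rw [prd_cons, prd_cons, map_mul, hφ, Subgroup.coe_mul, ih]
  have hrel : ∀ (a b : Δ) (n : ℕ), (refl P (a : ι) * refl P (b : ι)) ^ n = 1 →
      (cs₀.simple a * cs₀.simple b) ^ n = 1 := fun a b n h => by
    obtain ⟨q, rfl⟩ := orderOf_dvd_of_pow_eq_one h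
    rw [pow_mul, show orderOf (refl P (a : ι) * refl P (b : ι)) = C a b from rfl, cs₀.simple_mul_simple_pow, one_pow]
  have inj : Function.Injective φ := (injective_iff_map_eq_one φ).2 fun g hg => by
    obtain ⟨l, rfl⟩ : ∃ l, prd cs₀.simple l = g := by
      refine cs₀.simple_induction (p := fun g => ∃ l, prd cs₀.simple l = g) g
        (fun a => ⟨[a], prd_singleton _ _⟩) ⟨[], rfl⟩ ?_
      rintro _ _ ⟨l, rfl⟩ ⟨m, rfl⟩
      exact ⟨l ++ m, prd_append _ _ _⟩
    exact (exch_refl hΔ).eq_one cs₀.simple_mul_simple_self hrel (by rw [← hval, hg]; rfl)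
  have surj : Function.Surjective φ := fun w => by
    obtain ⟨l, hl, e⟩ := exists_word P (Δ := Δ) (g := (w : P.Aut)) (by rw [hΔ.weylSub_eq]; exact w.2)
    obtain ⟨l, rfl⟩ : ∃ l' : List Δ, l'.map Subtype.val = l := ⟨l.pmap Subtype.mk hl, by simp [List.map_pmap]⟩
    refine ⟨prd cs₀.simple l, Subtype.ext ?_⟩
    rw [hval, ← e, List.map_map]
    rfl
  exact ⟨⟨(MulEquiv.ofBijective φ ⟨inj, surj⟩).symm⟩, fun a => congrArg Subtype.val (hφ a)⟩

end Roots

end Groth.Agent.RootDLib.Cox
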