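import Groth.Agent.RootDLib.Sub3

/-! Irreducible root data: connectedness, orbits, lengths. -/

set_option autoImplicit false

open Function Set RootPairing

namespace Groth.Agent.RootDLib

section General

variable {ι R M N : Type*} [CommRing R] [AddCommGroup M] [Module R M] [AddCommGroup N] [Module R N]
  (P : RootPairing ι R M N) [CharZero R] [IsDomain R] [P.IsCrystallographic] [Finite ι]

theorem pairingIn_ne_zero_symm {i j : ι} (h : P.pairingIn ℤ i j ≠ 0) : P.pairingIn ℤ j i ≠ 0 :=
  have := isTorsionFree P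
  fun h' => h (P.pairingIn_eq_zero_iff.1 h')

theorem pairingIn_ng_self (a : ι) : P.pairingIn ℤ a (ng P a) = -2 := by
  rw [ng, pairingIn_reflectionPerm_self_right, pairingIn_same]

/-- If every root adjacent to a class is in the class, the class is a decomposition. -/
theorem closed_of_adj {C : Set ι} (h : ∀ a b, a ∈ C → P.pairingIn ℤ a b ≠ 0 → b ∈ C) :
    RootD.IsClosedSub P C ∧ RootD.IsSymmSub P C ∧ RootD.IsClosedSub P Cᶜ ∧ RootD.IsSymmSub P Cᶜ := by
  haveI := Fintype.ofFinite ι
  have h' : ∀ a b, a ∉ C → P.pairingIn ℤ a b ≠ 0 → b ∉ C := fun a b ha hab hb =>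
    ha (h b a hb (pairingIn_ne_zero_symm P hab))
  have hadd : ∀ {a b k : ι}, P.root k = P.root a + P.root b → P.pairingIn ℤ a k ≠ 0 ∨ P.pairingIn ℤ b k ≠ 0 := by
    intro a b k e
    by_contra hh
    simp only [not_or, ne_eq, not_not] at hh
    have : ((P.pairingIn ℤ k k : ℤ) : R) = (P.pairingIn ℤ a k : ℤ) + (P.pairingIn ℤ b k : ℤ) := by
      simp only [← eq_intCast (algebraMap ℤ R), P.algebraMap_pairingIn, ← root_coroot'_eq_pairing, e, map_add]
    rw [hh.1, hh.2, pairingIn_same] at this
    simp at this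
  have hn : ∀ a, P.pairingIn ℤ a (ng P a) ≠ 0 := fun a => by rw [pairingIn_ng_self]; norm_num
  exact ⟨fun a b k ha hb e => (hadd e).elim (h a k ha) (h b k hb), fun a ha => h a _ ha (hn a),
    fun a b k ha hb e => (hadd e).elim (h' a k ha) (h' b k hb), fun a ha => h' a _ ha (hn a)⟩

end General

variable {ι M N : Type*} [AddCommGroup M] [AddCommGroup N] (P : RootPairing ι ℤ M N) [Finite ι]

/-- Irreducibility in the sense of decompositions. -/
def Irred : Prop :=
  ∀ R' : Set ι, RootD.IsClosedSub P R' → RootD.IsSymmSub P R' → RootD.IsClosedSub P R'ᶜ →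
    RootD.IsSymmSub P R'ᶜ → R' = ∅ ∨ R' = Set.univ

variable {P}

/-- Induction along non-orthogonal pairs in an irreducible root datum. -/
theorem Irred.induction (hirr : Irred P) {p : ι → Prop} (i : ι) (hi : p i)
    (h : ∀ a b, p a → P.pairingIn ℤ a b ≠ 0 → p b) (j : ι) : p j := by
  obtain ⟨h1, h2, h3, h4⟩ := closed_of_adj P (C := {x | p x}) h
  rcases hirr _ h1 h2 h3 h4 with e | e
  · exact absurd hi (fun hp => (e ▸ hp : i ∈ (∅ : Set ι)))
  · exact (e ▸ Set.mem_univ j : j ∈ {x | p x})

theorem Irred.exists_smul_adj (hirr : Irred P) (i j : ι) :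
    ∃ g ∈ P.weylGroup, P.pairingIn ℤ (g • i) j ≠ 0 := by
  refine hirr.induction (p := fun b => ∃ g ∈ P.weylGroup, P.pairingIn ℤ (g • i) b ≠ 0) i
    ⟨1, one_mem _, by rw [one_smul, pairingIn_same]; norm_num⟩ (fun b c ⟨g, hg, hgb⟩ hbc => ?_) j
  by_cases hgc : P.pairingIn ℤ (g • i) c = 0
  · refine ⟨refl P b * g, mul_mem (P.reflection_mem_weylGroup b) hg, ?_⟩
    rw [mul_smul]
    have : P.pairingIn ℤ (refl P b • g • i) c =
        P.pairingIn ℤ (g • i) c - P.pairingIn ℤ (g • i) b * P.pairingIn ℤ b c := by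
      simp only [pairingIn_eq]
      rw [← root_coroot'_eq_pairing, root_refl, map_sub, map_zsmul, root_coroot'_eq_pairing,
        root_coroot'_eq_pairing, pairingIn_eq, smul_eq_mul]
    rw [this, hgc, zero_sub, neg_ne_zero]
    exact mul_ne_zero hgb hbc
  · exact ⟨g, hg, hgc⟩

variable (P)

theorem rootForm_eq_q [Fintype ι] (a b : ι) : P.RootForm (P.root a) (P.root b) = q P a b := by
  simpa using (algebraMap_q P a b).symm

theorem q_mul_swap [Fintype ι] (i j : ι) : P.pairingIn ℤ j i * q P i i = P.pairingIn ℤ i j * q P j j := by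
  rw [← two_mul_q, ← two_mul_q, q_comm]

theorem q_smul [Fintype ι] {g : P.Aut} (hg : g ∈ P.weylGroup) (i : ι) : q P (g • i) (g • i) = q P i i := by
  rw [← rootForm_eq_q, ← rootForm_eq_q]
  induction hg using RootPairing.weylGroup.induction generalizing i with
  | mem a => rw [root_smul, Equiv.reflection_smul, rootForm_reflection_reflection_apply]
  | one => rw [one_smul]
  | mul x y _ _ hx hy => rw [mul_smul, hx, hy]

theorem q_of_eq_zsmul [Fintype ι] {a b : ι} {t : ℤ} (e : P.root a = t • P.root b) : q P a a = t * t * q P b b := by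
  rw [← rootForm_eq_q, ← rootForm_eq_q, e]
  simp [mul_assoc]

/-- Length ratios between adjacent roots. -/
theorem q_ratio [Fintype ι] {i j : ι} (h : P.pairingIn ℤ i j ≠ 0) (hle : q P i i ≤ q P j j) :
    q P j j = q P i i ∨ (q P j j = 2 * q P i i ∧ LinearIndependent ℤ ![P.root i, P.root j]) ∨
      (q P j j = 3 * q P i i ∧ LinearIndependent ℤ ![P.root i, P.root j]) ∨
      (q P j j = 4 * q P i i ∧ ∃ t, P.root j = (2 : ℤ) • P.root t) := by
  have hpos := q_self_pos P i
  by_cases hli : LinearIndependent ℤ ![P.root i, P.root j]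
  · have hsw := q_mul_swap P i j
    have hmem := P.coxeterWeightIn_mem_set_of_isCrystallographic i j
    haveI := isTorsionFree P
    have h4 := (RootPairing.linearIndependent_iff_coxeterWeightIn_ne_four P ℤ).1 hli
    simp only [coxeterWeightIn, Set.mem_insert_iff, Set.mem_singleton_iff] at hmem h4
    set a := P.pairingIn ℤ i j
    set b := P.pairingIn ℤ j i
    have hb : b ≠ 0 := pairingIn_ne_zero_symm P h
    have hab : 0 < a * b ∧ a * b < 4 := by
      have h0 : a * b ≠ 0 := mul_ne_zero h hb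
      omega
    have ha3 : -3 ≤ a ∧ a ≤ 3 := by
      rcases lt_or_gt_of_ne hb with hb' | hb' <;> constructor <;> nlinarith
    have hb3 : -3 ≤ b ∧ b ≤ 3 := by
      rcases lt_or_gt_of_ne h with ha' | ha' <;> constructor <;> nlinarith
    obtain ⟨ha3, ha3'⟩ := ha3
    obtain ⟨hb3, hb3'⟩ := hb3
    obtain ⟨hab, hab'⟩ := hab
    interval_cases a <;> interval_cases b <;> simp_all <;> omega
  · have key : ∀ {x y : ι} {t : ℤ}, P.root x = t • P.root y → q P x x = t * t * q P y y := q_of_eq_zsmul P
    rcases cases_of_not_linearIndependent P hli with c | c | c | c | c | c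
    · have := key (x := j) (y := i) (t := 1) (by rw [one_smul]; exact c)
      exact .inl (by linarith)
    · have := key (x := j) (y := i) (t := -1) (by rw [neg_smul, one_smul]; exact c)
      exact .inl (by linarith)
    · have := key (x := j) (y := i) c
      exact .inr <| .inr <| .inr ⟨by linarith, i, c⟩
    · have := key (x := j) (y := i) (t := -2) (by rw [neg_smul]; exact c)
      refine .inr <| .inr <| .inr ⟨by linarith, ng P i, ?_⟩
      rw [root_ng, smul_neg, c]
    · have := key (x := i) (y := j) c; have := q_self_pos P j; omega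
    · have := key (x := i) (y := j) (t := -2) (by rw [neg_smul]; exact c); have := q_self_pos P j; omega

theorem Irred.q_dvd [Fintype ι] (hirr : Irred P) {i₀ : ι} (hmin : ∀ i, q P i₀ i₀ ≤ q P i i) (j : ι) :
    q P i₀ i₀ ∣ q P j j := by
  obtain ⟨g, hg, h⟩ := hirr.exists_smul_adj i₀ j
  rw [← q_smul P hg i₀]
  rcases q_ratio P h ((q_smul P hg i₀).trans_le (hmin j)) with e | ⟨e, -⟩ | ⟨e, -⟩ | ⟨e, -⟩ <;> rw [e]
  exacts [dvd_mul_left _ _, dvd_mul_left _ _, dvd_mul_left _ _]

end Groth.Agent.RootDLib
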