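import Groth.Agent.RootDLib.Sub3
import Groth.Agent.RootDLib.Irred

/-! Dominance. -/

set_option autoImplicit false

open Function Set RootPairing

namespace Groth.Agent.RootDLib

variable {ι M N Γ : Type*} [AddCommGroup M] [AddCommGroup N] (P : RootPairing ι ℤ M N) {S : Set ι}
  [AddCommGroup Γ] [LinearOrder Γ] [IsOrderedAddMonoid Γ]

theorem root_refl_int (a : ι) (m : M) : refl P a • m = m - P.coroot' a m • P.root a := by
  rw [Equiv.reflection_smul, reflection_apply]

theorem coroot'_smul_symm (g : P.Aut) (k : ι) (m : M) : P.coroot' k (g⁻¹ • m) = P.coroot' (g • k) m := by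
  conv_rhs => rw [show m = g • g⁻¹ • m from (smul_inv_smul g m).symm, coroot'_smul]

variable [Fintype ι]

/-- For dominant `f` the difference `f - f ∘ g` is a combination of positive coroots. -/
theorem exists_dom_comb (hS : RootD.IsPosSys P S) (f : M →+ Γ) (hf : ∀ i ∈ S, 0 ≤ f (P.root i)) {g : P.Aut}
    (hg : g ∈ P.weylGroup) :
    ∃ c : ι → Γ, (∀ i, 0 ≤ c i) ∧ (∀ i, i ∉ S → c i = 0) ∧ ∀ m : M, f m - f (g • m) = ∑ i, (P.coroot' i m) • c i := by
  classical
  have hΔ := isSimple_simples hS
  rw [← hΔ.weylSub_eq] at hg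
  have hex : ∃ n, ∃ l : List ι, (∀ a ∈ l, a ∈ simples P S) ∧ (l.map (refl P)).prod = g ∧ l.length = n := by
    obtain ⟨l, hl, e⟩ := exists_word P hg
    exact ⟨_, l, hl, e, rfl⟩
  obtain ⟨l, hl, rfl, hn⟩ := Nat.find_spec hex
  have hmin : ∀ l' : List ι, (∀ a ∈ l', a ∈ simples P S) → (l'.map (refl P)).prod = (l.map (refl P)).prod →
      l.length ≤ l'.length := fun l' hl' e' => hn ▸ Nat.find_min' hex ⟨l', hl', e', rfl⟩
  clear hn hex hg
  induction l using List.reverseRecOn with
  | nil => exact ⟨0, fun _ => le_rfl, fun _ _ => rfl, fun m => by simp⟩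
  | append_singleton t a ih =>
    have ha : a ∈ simples P S := hl a (by simp)
    obtain ⟨c, hc0, hcS, hc⟩ := ih (fun b hb => hl b (List.mem_append_left _ hb)) fun l' hl' e' => by
      have := hmin (l' ++ [a]) (by
        intro b hb
        rcases List.mem_append.1 hb with hb | hb
        · exact hl' b hb
        · exact List.mem_singleton.1 hb ▸ ha) (by simp [e'])
      simp at this; omega
    have hpos : (t.map (refl P)).prod • a ∈ S := by
      by_contra hc'
      obtain ⟨l', hl', hlen, he⟩ := hΔ.deletion t (fun b hb => hl b (List.mem_append_left _ hb)) a ha fun h =>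
        hc' (mem_of_natSpan hS (natSpan_mono P (simples_subset P S) h))
      have := hmin l' hl' (by simp [he])
      simp at this; omega
    refine ⟨c + Pi.single a (f (P.root ((t.map (refl P)).prod • a))), fun i => add_nonneg (hc0 i) ?_,
      fun i hi => ?_, fun m => ?_⟩
    · by_cases h : i = a
      · subst h; rw [Pi.single_eq_same]; exact hf _ hpos
      · rw [Pi.single_eq_of_ne h]
    · rw [Pi.add_apply, hcS i hi, zero_add, Pi.single_eq_of_ne]
      rintro rfl
      exact hi ha.1
    · rw [List.map_append, List.prod_append, List.map_singleton, List.prod_singleton, mul_smul, root_refl_int,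
        smul_sub, smul_comm _ (P.coroot' a m) (P.root a), ← root_smul, map_sub, map_zsmul]
      simp only [Pi.add_apply, smul_add, Finset.sum_add_distrib, ← hc m]
      rw [Finset.sum_eq_single a (fun b _ hb => by rw [Pi.single_eq_of_ne hb, smul_zero])
        (fun h => absurd (Finset.mem_univ a) h), Pi.single_eq_same]
      abel

theorem dominant_le (hS : RootD.IsPosSys P S) (f : M →+ Γ) (hf : ∀ i ∈ S, 0 ≤ f (P.root i)) {g : P.Aut}
    (hg : g ∈ P.weylGroup) {m : M} (hm : ∀ i ∈ S, 0 ≤ P.coroot' i m) : f (g • m) ≤ f m := by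
  obtain ⟨c, h0, hS', hc⟩ := exists_dom_comb P hS f hf hg
  rw [← sub_nonneg, hc]
  refine Finset.sum_nonneg fun i _ => ?_
  by_cases hi : i ∈ S
  · exact zsmul_nonneg (h0 i) (hm i hi)
  · rw [hS' i hi, smul_zero]

/-- A regular dominant weight. -/
theorem exists_regular (hS : RootD.IsPosSys P S) : ∃ m : M, ∀ i ∈ S, 0 < P.coroot' i m := by
  classical
  have hΔ := isSimple_simples hS
  have := isAddTorsionFree P
  refine ⟨∑ k ∈ Finset.univ.filter (· ∈ S), P.root k, fun i hi => ?_⟩
  have hsimple : ∀ j ∈ simples P S, 0 < P.coroot' j (∑ k ∈ Finset.univ.filter (· ∈ S), P.root k) := fun j hj => by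
    rw [map_sum]
    let X := Finset.univ.filter fun k => k ∈ S ∧ k ≠ j ∧ P.root k ≠ (2 : ℤ) • P.root j
    let Y := Finset.univ.filter fun k => k ∈ S ∧ ¬ (k ≠ j ∧ P.root k ≠ (2 : ℤ) • P.root j)
    have hsplit : Finset.univ.filter (· ∈ S) = X ∪ Y := by
      ext k; simp only [X, Y, Finset.mem_union, Finset.mem_filter, Finset.mem_univ, true_and]; tauto
    have hdisj : Disjoint X Y := Finset.disjoint_left.2 fun k h1 h2 => by
      simp only [X, Y, Finset.mem_filter, Finset.mem_univ, true_and] at h1 h2
      exact h2.2 h1.2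
    have hX : ∀ k ∈ X, refl P j • k ∈ X := fun k hk => by
      simp only [X, Finset.mem_filter, Finset.mem_univ, true_and] at hk ⊢
      have h1 : refl P j • k ∈ S := mem_of_natSpan hS (natSpan_mono P (simples_subset P S)
        (hΔ.refl_mem_posOf hj (mem_natSpan_simples hS hk.1) hk.2.1 hk.2.2))
      refine ⟨h1, fun e => ?_, fun e => ?_⟩
      · have hk' : k = ng P j := by rw [← refl_refl P j k, e, refl_self]
        exact hS.disjoint hj.1 (show ng P j ∈ S from hk' ▸ hk.1)
      · have hk' : P.root k = (2 : ℤ) • P.root (ng P j) := by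
          rw [← refl_refl P j k, root_smul, e, smul_comm, ← root_smul, refl_self]
        refine hS.disjoint hj.1 (hS.sat (k := ng P j) 2 two_pos ?_)
        rw [← natCast_zsmul, show ((2 : ℕ) : ℤ) = 2 from rfl, ← hk']
        exact root_mem_natSpan P hk.1
    have h0 : ∑ k ∈ X, P.coroot' j (P.root k) = 0 := by
      have h1 : ∑ k ∈ X, P.coroot' j (P.root k) = ∑ k ∈ X, -P.coroot' j (P.root k) :=
        Finset.sum_nbij' (refl P j • ·) (refl P j • ·) hX hX (fun k _ => refl_refl P j k) (fun k _ => refl_refl P j k)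
          fun k _ => by
            have e : P.coroot' j (P.root j) = 2 := P.root_coroot_two j
            rw [root_smul, root_refl_int, map_sub, map_smul, smul_eq_mul, e]
            ring
      rw [Finset.sum_neg_distrib] at h1
      omega
    rw [hsplit, Finset.sum_union hdisj, h0, zero_add]
    have e : P.coroot' j (P.root j) = 2 := P.root_coroot_two j
    refine Finset.sum_pos' (fun k hk => ?_) ⟨j, by simp [Y, hj.1], by rw [e]; norm_num⟩
    simp only [Y, Finset.mem_filter, Finset.mem_univ, true_and, not_and_or, not_not] at hk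
    rcases hk.2 with rfl | h
    · rw [e]; norm_num
    · rw [h, map_smul, e]; norm_num
  obtain ⟨c, hc, hc0, he⟩ := (mem_natSpan_iff P).1 (mem_natSpan_simples hS hi)
  set m := ∑ k ∈ Finset.univ.filter (· ∈ S), P.root k
  have key : q P i i * P.coroot' i m = ∑ a, c a * (q P a a * P.coroot' a m) := by
    have e1 : ∀ a, q P a a * P.coroot' a m = 2 * P.toLinearMap m (P.Polarization (P.root a)) := fun a => by
      have := congrArg (P.toLinearMap m) (smul_coroot_eq P a)
      simpa [map_smul, smul_eq_mul] using this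
    rw [e1]
    simp only [e1]
    have h2 : P.root i = ∑ a, c a • P.root a := by
      rw [← he, comb, Finsupp.linearCombination_apply, Finsupp.sum_fintype _ _ (fun a => zero_smul ℤ (P.root a))]
    rw [h2]
    simp only [map_sum, map_smul, smul_eq_mul, Finset.mul_sum]
    exact Finset.sum_congr rfl fun a _ => by ring
  obtain ⟨a, ha⟩ : ∃ a, c a ≠ 0 := by
    by_contra hn
    simp only [not_exists, not_not] at hn
    exact P.ne_zero i (by rw [← he, show c = 0 from Finsupp.ext hn, map_zero])
  have hpos : 0 < ∑ a, c a * (q P a a * P.coroot' a m) := by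
    refine Finset.sum_pos' (fun b _ => ?_) ⟨a, Finset.mem_univ a,
      mul_pos (lt_of_le_of_ne (hc0 a) (Ne.symm ha)) (mul_pos (q_self_pos P a) (hsimple a (hc (Finsupp.mem_support_iff.2 ha))))⟩
    by_cases hb : c b = 0
    · rw [hb, zero_mul]
    · exact mul_nonneg (hc0 b) (mul_nonneg (q_self_pos P b).le (hsimple b (hc (Finsupp.mem_support_iff.2 hb))).le)
  rw [← key] at hpos
  exact pos_of_mul_pos_right hpos (q_self_pos P i).le

/-- Every weight has a dominant translate. -/
theorem exists_dominant_translate (hS : RootD.IsPosSys P S) (m : M) :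
    ∃ g ∈ P.weylGroup, ∀ i ∈ S, 0 ≤ P.coroot' i (g • m) := by
  have e1 : ∀ a, q P a a * P.coroot' a m = 2 * P.toLinearMap m (P.Polarization (P.root a)) := fun a => by
    have := congrArg (P.toLinearMap m) (smul_coroot_eq P a)
    simpa [map_smul, smul_eq_mul] using this
  let T : Set ι := {a | 0 ≤ q P a a * P.coroot' a m}
  obtain ⟨g, hg, hgS⟩ := exists_weyl_image_subset P (P' := T) hS (fun a => by
    simp only [T, Set.mem_setOf_eq, e1]
    show 0 ≤ _ ∨ 0 ≤ 2 * P.toLinearMap m (P.Polarization (P.root (ng P a)))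
    rw [root_ng, map_neg, map_neg]; omega) (fun a b k ha hb e => by
    simp only [T, Set.mem_setOf_eq, e1] at ha hb ⊢
    rw [e, map_add, map_add]; omega)
  refine ⟨g⁻¹, inv_mem hg, fun i hi => ?_⟩
  rw [coroot'_smul_symm]
  exact (mul_nonneg_iff_of_pos_left (q_self_pos P (g • i))).1 (hgS i hi)

theorem finite_weylGroup (hS : RootD.IsPosSys P S) : Finite P.weylGroup :=
  Finite.of_injective P.weylGroupToPerm ((injective_iff_map_eq_one _).2 fun x hx =>
    Subtype.ext ((isSimple_simples hS).eq_one_of_fix x.2 fun i => _root_.Equiv.ext_iff.1 hx i))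

end Groth.Agent.RootDLib
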