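import Groth.Agent.RootDLib.Basic

/-! Systems of positive and of simple roots. -/

set_option autoImplicit false

open Function Set

namespace Groth.Agent.RootDLib

variable {ι R M N : Type*} [CommRing R] [AddCommGroup M] [Module R M] [AddCommGroup N] [Module R N]
  (P : RootPairing ι R M N)

/-- Simple systems, with independence over `ℤ`. -/
structure IsSimple (Δ : Set ι) : Prop where
  linInd : LinearIndepOn ℤ P.root Δ
  mem_or_neg : ∀ i, P.root i ∈ RootD.natSpan P Δ ∨ -P.root i ∈ RootD.natSpan P Δ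

/-- The members of `S` which are not sums of two members of `S`. -/
def simples (S : Set ι) : Set ι :=
  {k | k ∈ S ∧ ¬∃ i j, i ∈ S ∧ j ∈ S ∧ P.root k = P.root i + P.root j}

theorem simples_subset (S : Set ι) : simples P S ⊆ S := fun _ h => h.1

variable [CharZero R] [IsDomain R] [P.IsCrystallographic] [Finite ι]

section Pos

variable {P} {S : Set ι} (hS : RootD.IsPosSys P S)
include hS

theorem mem_of_natSpan {k : ι} (h : P.root k ∈ RootD.natSpan P S) : k ∈ S :=
  hS.sat 1 one_pos (by simpa using h)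

theorem mem_add {i j k : ι} (hi : i ∈ S) (hj : j ∈ S) (h : P.root k = P.root i + P.root j) : k ∈ S :=
  mem_of_natSpan hS (h ▸ add_mem (root_mem_natSpan P hi) (root_mem_natSpan P hj))

theorem ng_mem_iff {i : ι} : ng P i ∈ S ↔ i ∉ S :=
  ⟨fun h hi => hS.disjoint hi h, fun h => (hS.cover i).resolve_left h⟩

theorem pointed {c : ι →₀ ℤ} (hc : ↑c.support ⊆ S) (h0 : ∀ i, 0 ≤ c i) (h : comb P c = 0) : c = 0 := by
  classical
  by_contra hne
  obtain ⟨a, ha⟩ := Finsupp.support_nonempty_iff.2 hne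
  refine hS.disjoint (hc ha) (hS.sat (c a).toNat ?_ ?_)
  · have := h0 a; have := Finsupp.mem_support_iff.1 ha; omega
  · refine (mem_natSpan_iff P).2 ⟨c.erase a, ?_, fun i => ?_, ?_⟩
    · exact (Finset.coe_subset.2 (by simp [Finsupp.support_erase, Finset.erase_subset])).trans hc
    · rw [Finsupp.erase_apply]; split <;> simp [h0]
    · show _ = (c a).toNat • P.root (ng P a)
      rw [← natCast_zsmul, Int.toNat_of_nonneg (h0 a), root_ng, smul_neg]
      rw [← Finsupp.single_add_erase a c, map_add, comb_single] at h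
      exact eq_neg_of_add_eq_zero_right h

theorem eq_zero_of_add {v w : M} (hv : v ∈ RootD.natSpan P S) (hw : w ∈ RootD.natSpan P S) (h : v + w = 0) :
    v = 0 := by
  classical
  obtain ⟨c, hc, hc0, rfl⟩ := (mem_natSpan_iff P).1 hv
  obtain ⟨d, hd, hd0, rfl⟩ := (mem_natSpan_iff P).1 hw
  have h' : c + d = 0 := pointed hS ((Finset.coe_subset.2 Finsupp.support_add).trans (by simpa using ⟨hc, hd⟩))
    (fun i => add_nonneg (hc0 i) (hd0 i)) (by rw [map_add, h])
  have : c = 0 := Finsupp.ext fun i => by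
    have := DFunLike.congr_fun h' i
    simp only [Finsupp.add_apply, Finsupp.zero_apply] at this ⊢
    linarith [hc0 i, hd0 i]
  simp [this]

theorem mem_natSpan_simples {k : ι} (hk : k ∈ S) : P.root k ∈ RootD.natSpan P (simples P S) := by
  let r : ι → ι → Prop := fun a b => P.root b - P.root a ∈ RootD.natSpan P S ∧ a ≠ b
  haveI : IsTrans ι r := ⟨fun a b c h₁ h₂ => by
    refine ⟨by simpa using add_mem h₂.1 h₁.1, ?_⟩
    rintro rfl
    exact h₁.2 (P.root.injective (sub_eq_zero.1 (eq_zero_of_add hS h₁.1 h₂.1 (by abel))).symm)⟩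
  haveI : Std.Irrefl r := ⟨fun a h => h.2 rfl⟩
  induction k using (Finite.wellFounded_of_trans_of_irrefl r).induction with
  | _ k ih =>
    by_cases hd : ∃ i j, i ∈ S ∧ j ∈ S ∧ P.root k = P.root i + P.root j
    · obtain ⟨i, j, hi, hj, e⟩ := hd
      rw [e]
      refine add_mem (ih i ⟨?_, ?_⟩ hi) (ih j ⟨?_, ?_⟩ hj)
      · rw [e, add_sub_cancel_left]; exact root_mem_natSpan P hj
      · rintro rfl; exact P.ne_zero j (by simpa using e.symm)
      · rw [e, add_sub_cancel_right]; exact root_mem_natSpan P hi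
      · rintro rfl; exact P.ne_zero i (by simpa using e.symm)
    · exact root_mem_natSpan P ⟨hk, hd⟩

theorem natSpan_simples : RootD.natSpan P (simples P S) = RootD.natSpan P S :=
  le_antisymm (natSpan_mono P (simples_subset P S)) (natSpan_le P fun _ h => mem_natSpan_simples hS h)

theorem pairing_simples_nonpos {i j : ι} (hi : i ∈ simples P S) (hj : j ∈ simples P S) (hij : i ≠ j) :
    P.pairingIn ℤ i j ≤ 0 := by
  by_contra h
  obtain ⟨k, hk⟩ := exists_root_sub P (not_le.1 h) hij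
  rcases hS.cover k with hkS | hkS
  · exact hi.2 ⟨k, j, hkS, hj.1, by rw [hk]; abel⟩
  · exact hj.2 ⟨ng P k, i, hkS, hi.1, by rw [root_ng, hk]; abel⟩

theorem linearIndepOn_simples : LinearIndepOn ℤ P.root (simples P S) := by
  classical
  haveI := Fintype.ofFinite ι
  rw [linearIndepOn_iff]
  intro c hc h0
  let p : ι →₀ ℤ := c.mapRange (fun x => max x 0) (max_self 0)
  let n : ι →₀ ℤ := c.mapRange (fun x => max (-x) 0) (by simp)
  have hc' : ↑c.support ⊆ simples P S := by simpa [Finsupp.mem_supported] using hc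
  have hsp : ∀ i, p i ≠ 0 → 0 < c i ∧ i ∈ simples P S := fun i h => by
    have : max (c i) 0 ≠ 0 := by simpa [p] using h
    exact ⟨by omega, hc' (Finsupp.mem_support_iff.2 (by omega))⟩
  have hsn : ∀ i, n i ≠ 0 → c i < 0 ∧ i ∈ simples P S := fun i h => by
    have : max (-c i) 0 ≠ 0 := by simpa [n] using h
    exact ⟨by omega, hc' (Finsupp.mem_support_iff.2 (by omega))⟩
  have hp0 : ∀ i, 0 ≤ p i := fun i => by simp [p]
  have hn0 : ∀ i, 0 ≤ n i := fun i => by simp [n]
  have hpn : c = p - n := Finsupp.ext fun i => by simp [p, n]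
  have he : comb P p = comb P n := by
    have h0' : comb P c = 0 := h0
    rwa [hpn, map_sub, sub_eq_zero] at h0'
  have hz : comb P p = 0 := comb_eq_zero_of_nonpos P p n he <| by
    refine Finset.sum_nonpos fun i _ => Finset.sum_nonpos fun j _ => ?_
    by_cases hi : p i = 0
    · simp [hi]
    by_cases hj : n j = 0
    · simp [hj]
    refine mul_nonpos_of_nonneg_of_nonpos (mul_nonneg (hp0 i) (hn0 j)) ((q_nonpos_iff P i j).2 ?_)
    refine pairing_simples_nonpos hS (hsp i hi).2 (hsn j hj).2 ?_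
    rintro rfl
    linarith [(hsp i hi).1, (hsn i hj).1]
  rw [hpn, pointed hS (fun i h => ((hsp i (Finsupp.mem_support_iff.1 h)).2).1) hp0 hz,
    pointed hS (fun i h => ((hsn i (Finsupp.mem_support_iff.1 h)).2).1) hn0 (he ▸ hz), sub_zero]

theorem isSimple_simples : IsSimple P (simples P S) := by
  refine ⟨linearIndepOn_simples hS, fun i => ?_⟩
  rcases hS.cover i with h | h
  · exact .inl (mem_natSpan_simples hS h)
  · exact .inr (root_ng P i ▸ mem_natSpan_simples hS h)

end Pos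

namespace IsSimple

variable {P} {Δ : Set ι} (hΔ : IsSimple P Δ)
include hΔ

omit [CharZero R] [IsDomain R] [P.IsCrystallographic] [Finite ι] in
theorem comb_inj {c d : ι →₀ ℤ} (hc : ↑c.support ⊆ Δ) (hd : ↑d.support ⊆ Δ) (h : comb P c = comb P d) : c = d :=
  linearIndepOn_iffₛ.1 hΔ.linInd c (by simpa [Finsupp.mem_supported] using hc) d
    (by simpa [Finsupp.mem_supported] using hd) h

omit [CharZero R] [IsDomain R] [P.IsCrystallographic] [Finite ι] in
theorem exists_coef (k : ι) :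
    ∃ c : ι →₀ ℤ, ↑c.support ⊆ Δ ∧ comb P c = P.root k ∧ ((∀ i, 0 ≤ c i) ∨ (∀ i, c i ≤ 0)) := by
  rcases hΔ.mem_or_neg k with h | h <;> obtain ⟨c, hc, h0, e⟩ := (mem_natSpan_iff P).1 h
  · exact ⟨c, hc, e, .inl h0⟩
  · exact ⟨-c, by rwa [Finsupp.support_neg], by rw [map_neg, e, neg_neg], .inr fun i => by simpa using h0 i⟩

/-- The coefficients of a root in a simple system. -/
noncomputable def coef (k : ι) : ι →₀ ℤ := (hΔ.exists_coef k).choose

omit [CharZero R] [IsDomain R] [P.IsCrystallographic] [Finite ι] in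
theorem coef_support (k : ι) : ↑(hΔ.coef k).support ⊆ Δ := (hΔ.exists_coef k).choose_spec.1

omit [CharZero R] [IsDomain R] [P.IsCrystallographic] [Finite ι] in
theorem comb_coef (k : ι) : comb P (hΔ.coef k) = P.root k := (hΔ.exists_coef k).choose_spec.2.1

omit [CharZero R] [IsDomain R] [P.IsCrystallographic] [Finite ι] in
theorem coef_sign (k : ι) : (∀ i, 0 ≤ hΔ.coef k i) ∨ (∀ i, hΔ.coef k i ≤ 0) :=
  (hΔ.exists_coef k).choose_spec.2.2

omit [CharZero R] [IsDomain R] [P.IsCrystallographic] [Finite ι] in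
theorem coef_eq {k : ι} {c : ι →₀ ℤ} (hc : ↑c.support ⊆ Δ) (h : comb P c = P.root k) : hΔ.coef k = c :=
  hΔ.comb_inj (hΔ.coef_support k) hc ((hΔ.comb_coef k).trans h.symm)

theorem coef_self {i : ι} (hi : i ∈ Δ) : hΔ.coef i = Finsupp.single i 1 :=
  hΔ.coef_eq ((Finset.coe_subset.2 Finsupp.support_single_subset).trans (by simpa using hi)) (by simp)

theorem coef_ne_zero (k : ι) : hΔ.coef k ≠ 0 := fun h =>
  P.ne_zero k (by rw [← hΔ.comb_coef k, h, map_zero])

omit [CharZero R] [IsDomain R] [P.IsCrystallographic] [Finite ι] in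
theorem mem_posOf_iff {k : ι} : k ∈ RootD.posOf P Δ ↔ ∀ i, 0 ≤ hΔ.coef k i := by
  refine ⟨fun h => ?_, fun h => (mem_natSpan_iff P).2 ⟨_, hΔ.coef_support k, h, hΔ.comb_coef k⟩⟩
  obtain ⟨c, hc, h0, e⟩ := (mem_natSpan_iff P).1 h
  rwa [hΔ.coef_eq hc e]

omit [CharZero R] [IsDomain R] [P.IsCrystallographic] [Finite ι] in
theorem coef_ng (k : ι) : hΔ.coef (ng P k) = -hΔ.coef k :=
  hΔ.coef_eq (by rw [Finsupp.support_neg]; exact hΔ.coef_support k) (by rw [map_neg, hΔ.comb_coef, root_ng])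

theorem isPosSys : RootD.IsPosSys P (RootD.posOf P Δ) where
  disjoint i hi hi' := by
    have h' : ∀ a, 0 ≤ hΔ.coef (ng P i) a := hΔ.mem_posOf_iff.1 hi'
    rw [hΔ.coef_ng] at h'
    exact hΔ.coef_ne_zero i (Finsupp.ext fun a => le_antisymm (by simpa using h' a) (hΔ.mem_posOf_iff.1 hi a))
  cover i := by
    rcases hΔ.coef_sign i with h | h
    · exact .inl (hΔ.mem_posOf_iff.2 h)
    · exact .inr (hΔ.mem_posOf_iff.2 fun a => by
        show 0 ≤ hΔ.coef (ng P i) a
        simpa [hΔ.coef_ng] using h a)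
  sat k n hn h := by
    have hle : RootD.natSpan P (RootD.posOf P Δ) ≤ RootD.natSpan P Δ := natSpan_le P fun _ hi => hi
    obtain ⟨c, hc, h0, e⟩ := (mem_natSpan_iff P).1 (hle h)
    have : c = (n : ℤ) • hΔ.coef k := hΔ.comb_inj hc
      ((Finset.coe_subset.2 Finsupp.support_smul).trans (hΔ.coef_support k))
      (by rw [e, map_smul, hΔ.comb_coef, natCast_zsmul])
    refine hΔ.mem_posOf_iff.2 fun a => ?_
    have h1 := h0 a
    rw [this, Finsupp.smul_apply, smul_eq_mul] at h1
    exact (mul_nonneg_iff_of_pos_left (by exact_mod_cast hn)).1 h1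

omit [CharZero R] [IsDomain R] [P.IsCrystallographic] [Finite ι] in
theorem subset_posOf : Δ ⊆ RootD.posOf P Δ := fun _ h => root_mem_natSpan P h

theorem coef_sum_pos {k : ι} (hk : k ∈ RootD.posOf P Δ) : 0 < (hΔ.coef k).sum fun _ a => a := by
  obtain ⟨a, ha⟩ := Finsupp.support_nonempty_iff.2 (hΔ.coef_ne_zero k)
  exact Finset.sum_pos' (fun i _ => hΔ.mem_posOf_iff.1 hk i)
    ⟨a, ha, lt_of_le_of_ne (hΔ.mem_posOf_iff.1 hk a) (Finsupp.mem_support_iff.1 ha).symm⟩

theorem simples_posOf : simples P (RootD.posOf P Δ) = Δ := by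
  classical
  have hsub : Δ ⊆ simples P (RootD.posOf P Δ) := fun k hk => by
    refine ⟨subset_posOf hΔ hk, ?_⟩
    rintro ⟨i, j, hi, hj, e⟩
    have : hΔ.coef k = hΔ.coef i + hΔ.coef j := hΔ.coef_eq
      ((Finset.coe_subset.2 Finsupp.support_add).trans (by simpa using ⟨hΔ.coef_support i, hΔ.coef_support j⟩))
      (by rw [map_add, hΔ.comb_coef, hΔ.comb_coef, e])
    have hs := congrArg (fun c : ι →₀ ℤ => c.sum fun _ a => a) this
    rw [hΔ.coef_self hk] at hs
    simp only [Finsupp.sum_single_index, Finsupp.sum_add_index' (h := fun _ a => a) (fun _ => rfl) fun _ _ _ => rfl]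
      at hs
    linarith [hΔ.coef_sum_pos hi, hΔ.coef_sum_pos hj]
  refine subset_antisymm (fun k hk => ?_) hsub
  have h1 : hΔ.coef k = Finsupp.single k 1 := (isSimple_simples hΔ.isPosSys).comb_inj
    ((hΔ.coef_support k).trans hsub)
    ((Finset.coe_subset.2 Finsupp.support_single_subset).trans (by simpa using hk)) (by simp [hΔ.comb_coef])
  exact hΔ.coef_support k (by simp [h1])

theorem eq_posOf_of_subset {S : Set ι} (hS : RootD.IsPosSys P S) (h : Δ ⊆ S) : S = RootD.posOf P Δ := by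
  have hle : RootD.posOf P Δ ⊆ S := fun k hk => mem_of_natSpan hS (natSpan_mono P h hk)
  refine subset_antisymm (fun k hk => ?_) hle
  by_contra hn
  exact hS.disjoint hk (hle ((ng_mem_iff hΔ.isPosSys).2 hn))

theorem eq_simples {S : Set ι} (hS : RootD.IsPosSys P S) (h : Δ ⊆ S) : Δ = simples P S := by
  rw [hΔ.eq_posOf_of_subset hS h, hΔ.simples_posOf]

theorem pairing_nonpos {i j : ι} (hi : i ∈ Δ) (hj : j ∈ Δ) (hij : i ≠ j) : P.pairingIn ℤ i j ≤ 0 :=
  pairing_simples_nonpos hΔ.isPosSys (hΔ.simples_posOf.symm ▸ hi) (hΔ.simples_posOf.symm ▸ hj) hij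

theorem indiv {i : ι} (hi : i ∈ Δ) (j : ι) : P.root i ≠ (2 : ℤ) • P.root j := by
  intro e
  have hi' := hΔ.simples_posOf.symm ▸ hi
  have hj : j ∈ RootD.posOf P Δ := by
    refine hΔ.isPosSys.sat 2 two_pos ?_
    rw [show (2 : ℕ) • P.root j = P.root i by rw [e, ← natCast_zsmul]; rfl]
    exact root_mem_natSpan P (subset_posOf hΔ hi)
  exact hi'.2 ⟨j, j, hj, hj, by rw [e, two_smul]⟩

end IsSimple

/-- The simple system of a positive system. -/
theorem existsUnique_isSimple {S : Set ι} (hS : RootD.IsPosSys P S) :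
    ∃! Δ : Set ι, IsSimple P Δ ∧ Δ ⊆ S :=
  ⟨simples P S, ⟨isSimple_simples hS, simples_subset P S⟩, fun _ h => h.1.eq_simples hS h.2⟩

end Groth.Agent.RootDLib
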