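import Groth.Agent.RootDLib.Z

/-! Subsystems: induction on positive roots, spans of simple roots, decompositions. -/

set_option autoImplicit false

open Function Set RootPairing

namespace Groth.Agent.RootDLib

variable {ι R M N : Type*} [CommRing R] [AddCommGroup M] [Module R M] [AddCommGroup N] [Module R N]
  (P : RootPairing ι R M N)

theorem word_mem {Δ : Set ι} {l : List ι} (hl : ∀ a ∈ l, a ∈ Δ) : (l.map (refl P)).prod ∈ weylSub P Δ :=
  Subgroup.list_prod_mem _ fun x hx => by
    obtain ⟨a, ha, rfl⟩ := List.mem_map.1 hx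
    exact Subgroup.subset_closure ⟨a, hl a ha, rfl⟩

variable [CharZero R] [IsDomain R] [P.IsCrystallographic] [Finite ι]

theorem refl_eq_of_not_linearIndependent {i j : ι} (h : ¬ LinearIndependent R ![P.root i, P.root j]) :
    refl P i = refl P j := by
  rcases cases_of_not_linearIndependent P h with c | c | c | c | c | c
  · rw [P.root.injective c]
  · rw [show j = ng P i from P.root.injective (by rw [root_ng]; exact c), refl_ng]
  · rw [refl_eq_of_two P c]
  · rw [refl_eq_of_two P (i := ng P i) (k := j) (by rw [root_ng, smul_neg]; exact c), refl_ng]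
  · rw [refl_eq_of_two P c]
  · rw [refl_eq_of_two P (i := ng P j) (k := i) (by rw [root_ng, smul_neg]; exact c), refl_ng]

/-- Non-orthogonal roots lie on the same side of a decomposition. -/
theorem same_side {R' : Set ι} (hc : RootD.IsClosedSub P R') (hs : RootD.IsSymmSub P R')
    (hc' : RootD.IsClosedSub P R'ᶜ) (hs' : RootD.IsSymmSub P R'ᶜ) {i j : ι} (hi : i ∈ R')
    (hij : P.pairingIn ℤ i j ≠ 0) : j ∈ R' := by
  by_contra hj
  have key : ∀ {a b k : ι}, a ∈ R' → b ∉ R' → P.root k ≠ P.root a + P.root b := fun {a b k} ha hb e => by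
    by_cases hk : k ∈ R'
    · exact hb (hc (hs ha) hk (by rw [show P.reflectionPerm a a = ng P a from rfl, root_ng, e]; abel))
    · exact hc' (hs' (show b ∈ R'ᶜ from hb)) (show k ∈ R'ᶜ from hk)
        (by rw [show P.reflectionPerm b b = ng P b from rfl, root_ng, e]; abel) ha
  rcases lt_or_gt_of_ne hij with h | h
  · have hne : P.root i ≠ -P.root j := fun e => by
      rw [show i = ng P j from P.root.injective (by rw [root_ng]; exact e)] at hi
      exact hs' (show j ∈ R'ᶜ from hj) hi
    obtain ⟨k, hk⟩ := P.root_add_root_mem_of_pairingIn_neg h hne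
    exact key hi hj hk
  · obtain ⟨k, hk⟩ := exists_root_sub P h (fun e => hj (e ▸ hi))
    exact key hi (show ng P j ∉ R' from hs' (show j ∈ R'ᶜ from hj)) (k := k) (by rw [hk, root_ng]; abel)

namespace IsSimple

variable {P} {Δ : Set ι} (hΔ : IsSimple P Δ)
include hΔ

theorem pos_step {k : ι} (hk : k ∈ RootD.posOf P Δ) (hkΔ : k ∉ Δ) :
    ∃ i ∈ Δ, 0 < P.pairingIn ℤ k i ∧ ∃ l ∈ RootD.posOf P Δ, P.root k = P.root i + P.root l ∧
      hΔ.coef k = Finsupp.single i 1 + hΔ.coef l := by
  classical
  obtain ⟨i, hi, hp⟩ := hΔ.exists_pairing_pos hk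
  obtain ⟨l, hl⟩ := exists_root_sub P hp (fun e => hkΔ (e ▸ hi))
  have he : hΔ.coef k = Finsupp.single i 1 + hΔ.coef l := hΔ.coef_eq
    ((Finset.coe_subset.2 Finsupp.support_add).trans (by
      rw [Finset.coe_union]
      exact union_subset ((Finset.coe_subset.2 Finsupp.support_single_subset).trans (by simpa using hi))
        (hΔ.coef_support l)))
    (by rw [map_add, comb_single, one_zsmul, hΔ.comb_coef, hl]; abel)
  refine ⟨i, hi, hp, l, ?_, by rw [hl]; abel, he⟩
  rcases hΔ.coef_sign l with h | h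
  · exact hΔ.mem_posOf_iff.2 h
  · exfalso
    have hz : ∀ a, a ≠ i → hΔ.coef l a = 0 := fun a ha => by
      have := hΔ.mem_posOf_iff.1 hk a
      rw [he, Finsupp.add_apply, Finsupp.single_eq_of_ne ha] at this
      linarith [h a]
    have h1 := hΔ.mem_posOf_iff.1 hk i
    rw [he, Finsupp.add_apply, Finsupp.single_eq_same] at h1
    have h2 : hΔ.coef l i = 0 ∨ hΔ.coef l i = -1 := by have := h i; omega
    rcases h2 with h2 | h2
    · exact hΔ.coef_ne_zero l (Finsupp.ext fun a => by by_cases ha : a = i <;> simp_all)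
    · refine hΔ.coef_ne_zero k (Finsupp.ext fun a => ?_)
      rw [he]
      by_cases ha : a = i
      · subst ha; simp [h2]
      · simp [Finsupp.single_eq_of_ne ha, hz a ha]

theorem pos_induction {p : ι → Prop} {k : ι} (hk : k ∈ RootD.posOf P Δ) (h1 : ∀ i ∈ Δ, p i)
    (h2 : ∀ k i l, k ∈ RootD.posOf P Δ → i ∈ Δ → l ∈ RootD.posOf P Δ → 0 < P.pairingIn ℤ k i →
      P.root k = P.root i + P.root l → hΔ.coef k = Finsupp.single i 1 + hΔ.coef l → p l → p k) : p k := by
  classical
  generalize hn : ((hΔ.coef k).sum fun _ a => a).toNat = n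
  induction n using Nat.strong_induction_on generalizing k with
  | _ n ih =>
    by_cases hkΔ : k ∈ Δ
    · exact h1 k hkΔ
    obtain ⟨i, hi, hp, l, hl, e, he⟩ := hΔ.pos_step hk hkΔ
    refine h2 k i l hk hi hl hp e he (ih _ ?_ hl rfl)
    have hs : ((hΔ.coef k).sum fun _ a => a) = 1 + (hΔ.coef l).sum fun _ a => a := by
      rw [he, Finsupp.sum_add_index' (h := fun _ a => a) (fun _ => rfl) (fun _ _ _ => rfl),
        Finsupp.sum_single_index rfl]
    have := hΔ.coef_sum_pos hl
    omega

theorem support_subset_or {D : Set ι} (horth : ∀ i ∈ D, ∀ j ∈ Δ \ D, P.pairingIn ℤ j i = 0 ∧ P.pairingIn ℤ i j = 0)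
    {k : ι} (hk : k ∈ RootD.posOf P Δ) : ↑(hΔ.coef k).support ⊆ D ∨ ↑(hΔ.coef k).support ⊆ Δ \ D := by
  classical
  refine hΔ.pos_induction (p := fun k => ↑(hΔ.coef k).support ⊆ D ∨ ↑(hΔ.coef k).support ⊆ Δ \ D) hk
    (fun i hi => ?_) fun k i l hk hi hl hp e he ih => ?_
  · rw [hΔ.coef_self hi]
    by_cases h : i ∈ D
    · exact .inl ((Finset.coe_subset.2 Finsupp.support_single_subset).trans (by simpa using h))
    · exact .inr ((Finset.coe_subset.2 Finsupp.support_single_subset).trans (by simpa using ⟨hi, h⟩))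
  · have hsupp : ↑(hΔ.coef k).support ⊆ ({i} : Set ι) ∪ ↑(hΔ.coef l).support := by
      rw [he]
      refine (Finset.coe_subset.2 Finsupp.support_add).trans ?_
      rw [Finset.coe_union]
      exact union_subset_union ((Finset.coe_subset.2 Finsupp.support_single_subset).trans (by simp)) le_rfl
    have hbad : ¬ ∀ a ∈ (hΔ.coef l).support, a ≠ i ∧ P.pairingIn ℤ a i = 0 := by
      intro hz
      haveI := Fintype.ofFinite ι
      have hli : P.pairingIn ℤ l i = 0 := by
        refine Int.cast_injective (α := R) ?_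
        rw [Int.cast_zero, ← eq_intCast (algebraMap ℤ R), P.algebraMap_pairingIn, ← root_coroot'_eq_pairing,
          ← hΔ.comb_coef l, comb, Finsupp.linearCombination_apply, map_finsuppSum]
        refine Finset.sum_eq_zero fun a ha => ?_
        simp only [map_zsmul, root_coroot'_eq_pairing, ← P.algebraMap_pairingIn ℤ, (hz a ha).2, map_zero, smul_zero]
      have hki : P.pairingIn ℤ k i = 2 := by
        refine Int.cast_injective (α := R) ?_
        rw [← eq_intCast (algebraMap ℤ R), P.algebraMap_pairingIn, ← root_coroot'_eq_pairing, e, map_add,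
          root_coroot'_eq_pairing, root_coroot'_eq_pairing, pairing_same, ← P.algebraMap_pairingIn ℤ l i, hli]
        simp
      obtain ⟨a, ha⟩ := Finsupp.support_nonempty_iff.2 (hΔ.coef_ne_zero l)
      have hr := hΔ.coef_refl hi k
      rw [hki, he] at hr
      have hia : hΔ.coef l i = 0 := Finsupp.notMem_support_iff.1 fun h => (hz i h).1 rfl
      rcases hΔ.coef_sign (refl P i • k) with hs | hs
      · have := hs i
        rw [hr] at this
        simp [hia] at this
      · have := hs a
        rw [hr] at this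
        simp only [Finsupp.sub_apply, Finsupp.add_apply, Finsupp.single_eq_of_ne (hz a ha).1, zero_add, sub_zero] at this
        exact Finsupp.mem_support_iff.1 ha (le_antisymm this (hΔ.mem_posOf_iff.1 hl a))
    rcases ih with h | h
    · by_cases hiD : i ∈ D
      · exact .inl (hsupp.trans (union_subset (by simpa using hiD) h))
      · exact absurd (fun a ha => ⟨fun e => hiD (e ▸ h ha), (horth a (h ha) i ⟨hi, hiD⟩).2⟩) hbad
    · by_cases hiD : i ∈ D
      · exact absurd (fun a ha => ⟨fun e => (h ha).2 (e ▸ hiD), (horth i hiD a (h ha)).1⟩) hbad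
      · exact .inr (hsupp.trans (union_subset (by simpa using And.intro hi hiD) h))

theorem coef_weylSub {D : Set ι} (hD : D ⊆ Δ) {g : P.Aut} (hg : g ∈ weylSub P D) (k a : ι) (ha : a ∉ D) :
    hΔ.coef (g • k) a = hΔ.coef k a := by
  obtain ⟨l, hl, rfl⟩ := exists_word P hg
  clear hg
  induction l with
  | nil => simp
  | cons b t ih =>
    have hb : b ∈ D := hl b List.mem_cons_self
    rw [List.map_cons, List.prod_cons, mul_smul, hΔ.coef_refl (hD hb), Finsupp.sub_apply,
      Finsupp.single_eq_of_ne (by rintro rfl; exact ha hb), sub_zero,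
      ih fun x hx => hl x (List.mem_cons_of_mem b hx)]

omit [CharZero R] [IsDomain R] [P.IsCrystallographic] [Finite ι] in
theorem exists_coef_span {D : Set ι} (hD : D ⊆ Δ) {k : ι}
    (h : P.root k ∈ Submodule.span ℤ (P.root '' D)) : ↑(hΔ.coef k).support ⊆ D := by
  obtain ⟨c, hc, e⟩ := (Finsupp.mem_span_image_iff_linearCombination ℤ).1 h
  rw [Finsupp.mem_supported] at hc
  rwa [hΔ.coef_eq (hc.trans hD) e]

omit [CharZero R] [IsDomain R] [P.IsCrystallographic] [Finite ι] in
theorem mem_span_of_coef {D : Set ι} {k : ι} (h : ↑(hΔ.coef k).support ⊆ D) :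
    P.root k ∈ Submodule.span ℤ (P.root '' D) := by
  rw [← hΔ.comb_coef k, comb, Finsupp.linearCombination_apply]
  exact Submodule.sum_mem _ fun a ha => Submodule.smul_mem _ _ (Submodule.subset_span ⟨a, h ha, rfl⟩)

theorem mem_weylSub_iff {D : Set ι} (hD : D ⊆ Δ) {g : P.Aut} (hg : g ∈ P.weylGroup)
    (h : ∀ k a : ι, a ∉ D → hΔ.coef (g • k) a = hΔ.coef k a) : g ∈ weylSub P D := by
  rw [← hΔ.weylSub_eq] at hg
  obtain ⟨l, hl, rfl⟩ := exists_word P hg
  generalize hn : l.length = n
  induction n using Nat.strong_induction_on generalizing l with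
  | _ n ih =>
    by_cases hpos : ∀ i ∈ Δ, (l.map (refl P)).prod • i ∈ RootD.posOf P Δ
    · rw [hΔ.eq_one_of_mapsTo (hΔ.weylSub_eq ▸ hg) hpos]
      exact one_mem _
    simp only [not_forall] at hpos
    obtain ⟨i, hi, hneg⟩ := hpos
    have hiD : i ∈ D := by
      by_contra hiD
      have h1 := h i i hiD
      rw [hΔ.coef_self hi, Finsupp.single_eq_same] at h1
      rcases hΔ.coef_sign ((l.map (refl P)).prod • i) with hs | hs
      · exact hneg (hΔ.mem_posOf_iff.2 hs)
      · have := hs i; omega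
    obtain ⟨l', hl', hlen, e⟩ := hΔ.deletion l hl i hi hneg
    have hmem : refl P i ∈ weylSub P D := Subgroup.subset_closure ⟨i, hiD, rfl⟩
    have := ih l'.length (by omega) l' hl' (word_mem P hl')
      (fun k a ha => by rw [e, mul_smul, h _ a ha, hΔ.coef_weylSub hD hmem k a ha]) rfl
    rw [e] at this
    have h2 := mul_mem this hmem
    rwa [mul_assoc, refl_mul_self, mul_one] at h2

theorem smul_isSimple (g : P.Aut) : IsSimple P ((g • ·) '' Δ) := by
  have := isSimple_simples (image_smul_isPosSys P hΔ.isPosSys g)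
  rwa [← image_simples, hΔ.simples_posOf] at this

theorem exists_smul_isSimple_mem {k : ι} (hk : ∀ j, P.root k ≠ (2 : ℤ) • P.root j) :
    ∃ Δ' : Set ι, IsSimple P Δ' ∧ k ∈ Δ' := by
  obtain ⟨g, -, i, hi, e⟩ := hΔ.exists_weylSub_smul hk
  exact ⟨_, hΔ.smul_isSimple g, i, hi, e⟩

end IsSimple

theorem isPosSys_of_closed {ι M N : Type*} [AddCommGroup M] [AddCommGroup N] (P : RootPairing ι ℤ M N) [Finite ι]
    {S : Set ι} (h1 : ∀ i ∈ S, P.reflectionPerm i i ∉ S) (h2 : ∀ i, i ∈ S ∨ P.reflectionPerm i i ∈ S)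
    (h3 : RootD.IsClosedSub P S) : RootD.IsPosSys P S := by
  obtain ⟨S₀, hS₀⟩ := exists_isPosSys_int P
  obtain ⟨g, -, hg⟩ := exists_weyl_image_subset P hS₀ h2 h3
  have e : (fun i : ι => g • i) '' S₀ = S := by
    refine Set.Subset.antisymm (by rintro _ ⟨k, hk, rfl⟩; exact hg k hk) fun k hk => ?_
    refine ⟨g⁻¹ • k, ?_, smul_inv_smul g k⟩
    by_contra hn
    have h' : g • ng P (g⁻¹ • k) ∈ S := hg _ ((ng_mem_iff hS₀).2 hn)
    rw [smul_ng, smul_inv_smul] at h'
    exact h1 k hk h'
  exact e ▸ image_smul_isPosSys P hS₀ g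

end Groth.Agent.RootDLib
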