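import Groth.Agent.RootDLib.Sub

/-! Saturated subsystems, polarization, permutation of positive roots by a simple reflection. -/

set_option autoImplicit false

open Function Set RootPairing

namespace Groth.Agent.RootDLib

/-- Finitely many functionals, each non-zero somewhere, are simultaneously non-zero somewhere. -/
theorem exists_generic {A ι : Type*} [AddCommGroup A] (f : ι → A →+ ℤ) (s : Finset ι)
    (h : ∀ i ∈ s, ∃ a, f i a ≠ 0) : ∃ a, ∀ i ∈ s, f i a ≠ 0 := by
  classical
  induction s using Finset.induction_on with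
  | empty => exact ⟨0, by simp⟩
  | insert x s hx ih =>
    obtain ⟨v, hv⟩ := ih fun i hi => h i (Finset.mem_insert_of_mem hi)
    obtain ⟨w, hw⟩ := h x (Finset.mem_insert_self x s)
    let bad : Finset ℤ := (insert x s).image fun i => -(f i v) / f i w
    obtain ⟨t, ht⟩ := Infinite.exists_notMem_finset bad
    simp only [bad, Finset.mem_image, not_exists, not_and] at ht
    refine ⟨v + t • w, fun i hi h0 => ?_⟩
    rw [map_add, map_zsmul, smul_eq_mul] at h0
    by_cases hd : f i w = 0
    · rw [hd] at h0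
      rcases Finset.mem_insert.1 hi with rfl | hi
      · exact hw hd
      · exact hv i hi (by simpa using h0)
    · exact ht i hi (by rw [show -(f i v) = t * f i w by linarith, Int.mul_ediv_cancel _ hd])

variable {ι R M N : Type*} [CommRing R] [AddCommGroup M] [Module R M] [AddCommGroup N] [Module R N]
  (P : RootPairing ι R M N)

variable [CharZero R] [IsDomain R] [P.IsCrystallographic] [Finite ι]

/-- A functional on the root lattice with prescribed zero set. -/
theorem exists_functional (R' : Set ι)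
    (hsat : ∀ k : ι, (∃ n : ℕ, 0 < n ∧ n • P.root k ∈ Submodule.span ℤ (P.root '' R')) → k ∈ R') :
    ∃ ψ : Submodule.span ℤ (Set.range P.root) →+ ℤ,
      ∀ k, ψ ⟨P.root k, Submodule.subset_span ⟨k, rfl⟩⟩ = 0 ↔ k ∈ R' := by
  classical
  haveI := Fintype.ofFinite ι
  let L := Submodule.span ℤ (Set.range P.root)
  let L' : Submodule ℤ L := (Submodule.span ℤ (P.root '' R')).comap L.subtype
  let e : ι → L := fun k => ⟨P.root k, Submodule.subset_span ⟨k, rfl⟩⟩
  haveI : Module.Finite ℤ L := Module.Finite.span_of_finite ℤ (Set.finite_range _)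
  let Q := (L ⧸ L') ⧸ Submodule.torsion ℤ (L ⧸ L')
  let π : L →ₗ[ℤ] Q := (Submodule.torsion ℤ (L ⧸ L')).mkQ ∘ₗ L'.mkQ
  haveI : Module.Free ℤ Q := Module.free_of_finite_type_torsion_free'
  let b := Module.Free.chooseBasis ℤ Q
  let ev : ι → (Q →ₗ[ℤ] ℤ) →+ ℤ := fun k => (LinearMap.applyₗ (π (e k))).toAddMonoidHom
  obtain ⟨φ, hφ⟩ := exists_generic ev (Finset.univ.filter (· ∉ R')) fun k hk => by
    simp only [Finset.mem_filter, Finset.mem_univ, true_and] at hk
    have hne : π (e k) ≠ 0 := by
      intro h0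
      obtain ⟨⟨n, hn⟩, h1⟩ := (Submodule.Quotient.mk_eq_zero _).1 h0
      have h2 : n • e k ∈ L' := (Submodule.Quotient.mk_eq_zero L').1 h1
      have hn0 : n ≠ 0 := nonZeroDivisors.ne_zero hn
      refine hk (hsat k ⟨n.natAbs, Int.natAbs_pos.2 hn0, ?_⟩)
      rw [← natCast_zsmul]
      rcases Int.natAbs_eq n with h | h
      · rw [← h]; exact h2
      · rw [show (n.natAbs : ℤ) = -n by omega, neg_smul]; exact neg_mem h2
    obtain ⟨a, ha⟩ : ∃ a, b.repr (π (e k)) a ≠ 0 := by
      by_contra hh
      simp only [not_exists, not_not] at hh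
      exact hne (b.repr.map_eq_zero_iff.1 (Finsupp.ext hh))
    exact ⟨b.coord a, ha⟩
  refine ⟨(φ ∘ₗ π).toAddMonoidHom, fun k => ⟨fun h => ?_, fun hk => ?_⟩⟩
  · by_contra hk
    exact hφ k (by simpa using hk) h
  · show φ (π (e k)) = 0
    have : π (e k) = 0 := by
      show (Submodule.torsion ℤ (L ⧸ L')).mkQ (L'.mkQ (e k)) = 0
      rw [show L'.mkQ (e k) = 0 from (Submodule.Quotient.mk_eq_zero _).2 (Submodule.subset_span ⟨k, hk, rfl⟩), map_zero]
    rw [this, map_zero]

/-- Extending a positive system of a saturated subsystem. -/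
theorem exists_isPosSys_extending {ι M N : Type*} [AddCommGroup M] [AddCommGroup N] (P : RootPairing ι ℤ M N)
    [Finite ι] {R' : Set ι}
    (hsat : ∀ k : ι, (∃ n : ℕ, 0 < n ∧ n • P.root k ∈ Submodule.span ℤ (P.root '' R')) → k ∈ R')
    {T : Set ι} (hTR : T ⊆ R') (h1 : ∀ i ∈ T, ng P i ∉ T) (h2 : ∀ i ∈ R', i ∈ T ∨ ng P i ∈ T)
    (h3 : RootD.IsClosedSub P T) :
    ∃ (S : Set ι) (hS : RootD.IsPosSys P S), (∀ i ∈ R', i ∈ S ↔ i ∈ T) ∧
      ∀ k, k ∈ R' → ↑((isSimple_simples hS).coef k).support ⊆ R' := by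
  classical
  obtain ⟨ψ, hψ⟩ := exists_functional P R' hsat
  let f : ι → ℤ := fun k => ψ ⟨P.root k, Submodule.subset_span ⟨k, rfl⟩⟩
  have hf : ∀ {i j k : ι}, P.root k = P.root i + P.root j → f k = f i + f j := fun {i j k} e => by
    show ψ _ = ψ _ + ψ _
    rw [← map_add]
    congr 1
    exact Subtype.ext e
  have hng : ∀ i, f (ng P i) = -f i := fun i => by
    show ψ _ = -ψ _
    rw [← map_neg]
    congr 1
    exact Subtype.ext (root_ng P i)
  have hR : ∀ {i}, i ∈ R' → ng P i ∈ R' := fun {i} hi => hsat _ ⟨1, one_pos, by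
    rw [one_nsmul, root_ng]; exact neg_mem (Submodule.subset_span ⟨i, hi, rfl⟩)⟩
  let S : Set ι := {k | 0 < f k ∨ k ∈ T}
  have hT0 : ∀ {i}, i ∈ T → f i = 0 := fun {i} hi => (hψ i).2 (hTR hi)
  have hS : RootD.IsPosSys P S := by
    refine isPosSys_of_closed P (fun i hi hi' => ?_) (fun i => ?_) fun i j k hi hj e => ?_
    · rcases hi with hi | hi <;> rcases (show 0 < f (ng P i) ∨ ng P i ∈ T from hi') with hi' | hi'
      · rw [hng] at hi'; omega
      · have := hT0 hi'; rw [hng] at this; omega
      · rw [hng, hT0 hi] at hi'; omega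
      · exact h1 i hi hi'
    · rcases lt_trichotomy (f i) 0 with h | h | h
      · exact .inr (show 0 < f (ng P i) ∨ _ from .inl (by rw [hng]; omega))
      · exact (h2 i ((hψ i).1 h)).imp .inr .inr
      · exact .inl (.inl h)
    · have := hf e
      rcases hi with hi | hi <;> rcases hj with hj | hj
      · exact .inl (by omega)
      · exact .inl (by have := hT0 hj; omega)
      · exact .inl (by have := hT0 hi; omega)
      · exact .inr (h3 hi hj e)
  have hnn : ∀ {i}, i ∈ S → 0 ≤ f i := fun {i} hi => hi.elim le_of_lt fun h => (hT0 h).ge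
  refine ⟨S, hS, fun i hi => ⟨fun h => h.resolve_left (by rw [show f i = 0 from (hψ i).2 hi]; omega), .inr⟩, ?_⟩
  have hΔ := isSimple_simples hS
  have hpos : RootD.posOf P (simples P S) = S := (hΔ.eq_posOf_of_subset hS (simples_subset P S)).symm
  have main : ∀ k, k ∈ RootD.posOf P (simples P S) → f k = 0 → ↑(hΔ.coef k).support ⊆ R' := fun k hk =>
    hΔ.pos_induction (p := fun k => f k = 0 → ↑(hΔ.coef k).support ⊆ R') hk
      (fun i hi h0 => by
        rw [hΔ.coef_self hi]
        exact (Finset.coe_subset.2 Finsupp.support_single_subset).trans (by simpa using (hψ i).1 h0))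
      (fun k i l _ hi hl _ e he ih h0 => by
        have := hf e
        have := hnn (simples_subset P S hi)
        have := hnn (hpos ▸ hl)
        rw [he]
        refine (Finset.coe_subset.2 Finsupp.support_add).trans ?_
        rw [Finset.coe_union]
        refine union_subset ((Finset.coe_subset.2 Finsupp.support_single_subset).trans ?_) (ih (by omega))
        simpa using (hψ i).1 (show f i = 0 by omega))
  intro k hk
  rcases hΔ.isPosSys.cover k with h | h
  · exact main k h ((hψ k).2 hk)
  · have := main (ng P k) h ((hψ _).2 (hR hk))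
    rwa [hΔ.coef_ng, Finsupp.support_neg] at this

/-- A simple reflection permutes the other positive roots of a reduced pairing. -/
theorem IsSimple.bijOn_refl [P.IsReduced] {Δ : Set ι} (hΔ : IsSimple P Δ) {i : ι} (hi : i ∈ Δ) :
    Set.BijOn (refl P i • ·) (RootD.posOf P Δ \ {i}) (RootD.posOf P Δ \ {i}) := by
  have := isAddTorsionFree P
  have hmaps : Set.MapsTo (refl P i • ·) (RootD.posOf P Δ \ {i}) (RootD.posOf P Δ \ {i}) := fun k hk => by
    refine ⟨hΔ.refl_mem_posOf hi hk.1 hk.2 fun e => P.nsmul_notMem_range_root (n := 2) (i := i)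
      ⟨k, by rw [e, ← natCast_zsmul]; rfl⟩, fun (e : refl P i • k = i) => ?_⟩
    have h1 : k = ng P i := by rw [← refl_refl P i k, e, refl_self]
    exact hΔ.isPosSys.disjoint (hΔ.subset_posOf hi) (show ng P i ∈ RootD.posOf P Δ from h1 ▸ hk.1)
  exact Set.InvOn.bijOn ⟨fun k _ => refl_refl P i k, fun k _ => refl_refl P i k⟩ hmaps hmaps

/-- `ℓ(α) α^v = 2 ψ(α)`. -/
theorem smul_coroot_eq [Fintype ι] (i : ι) : q P i i • P.coroot i = (2 : ℤ) • P.Polarization (P.root i) := by
  rw [← Int.cast_smul_eq_zsmul R (q P i i), algebraMap_q, P.rootForm_self_smul_coroot, ← natCast_zsmul]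
  rfl

theorem polarization_injOn [Fintype ι] {x : M} (hx : x ∈ P.rootSpan R) (h : P.Polarization x = 0) : x = 0 :=
  Submodule.disjoint_def.1 P.disjoint_rootSpan_ker_rootForm x hx
    (LinearMap.mem_ker.2 ((P.polarization_apply_eq_zero_iff x).1 h))

end Groth.Agent.RootDLib
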