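import Groth.Agent.RootDLib.Sub2

/-! Coroots of a simple system; positivity of a base. -/

set_option autoImplicit false

open Function Set RootPairing

namespace Groth.Agent.RootDLib

variable {ι R M N : Type*} [CommRing R] [AddCommGroup M] [Module R M] [AddCommGroup N] [Module R N]
  (P : RootPairing ι R M N)

variable [CharZero R] [IsDomain R] [P.IsCrystallographic] [Finite ι]

theorem coroot_refl (i k : ι) : P.coroot (refl P i • k) = P.coroot k - P.pairingIn ℤ i k • P.coroot i := by
  rw [refl_smul_idx, coroot_reflectionPerm, coreflection_apply_coroot, ← Int.cast_smul_eq_zsmul R,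
    ← eq_intCast (algebraMap ℤ R), P.algebraMap_pairingIn]

include P in
theorem zsmul_coroot_eq_zero {n : ℤ} {x : N} (hn : n ≠ 0) (h : n • x = 0) : x = 0 :=
  zsmul_eq_zero P.flip hn h

theorem two_smul_coroot_of_double [Fintype ι] {i k : ι} (h : P.root k = (2 : ℤ) • P.root i) :
    P.coroot i = (2 : ℤ) • P.coroot k := by
  have hk : q P k k = 4 * q P i i := by
    apply Int.cast_injective (α := R)
    rw [Int.cast_mul, algebraMap_q, algebraMap_q, h, map_zsmul, map_zsmul, LinearMap.smul_apply]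
    simp only [zsmul_eq_mul]
    push_cast; ring
  have h1 := smul_coroot_eq P k
  rw [hk, h, map_zsmul, smul_comm (2 : ℤ) (2 : ℤ), ← smul_coroot_eq P i] at h1
  refine sub_eq_zero.1 (zsmul_coroot_eq_zero P (n := 2 * q P i i) (by have := q_self_pos P i; omega) ?_)
  linear_combination (norm := module) -h1

namespace IsSimple

variable {P} {Δ : Set ι} (hΔ : IsSimple P Δ)
include hΔ

/-- The dual simple system. -/
def dual (_ : IsSimple P Δ) : Set ι :=
  {j | ∃ i ∈ Δ, (j = i ∧ ∀ l, P.coroot i ≠ (2 : ℤ) • P.coroot l) ∨ (2 : ℤ) • P.coroot j = P.coroot i}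

theorem smul_mem_span_dual {g : P.Aut} (hg : g ∈ P.weylGroup) {k : ι}
    (hk : P.coroot k ∈ Submodule.span ℤ (P.coroot '' hΔ.dual)) :
    P.coroot (g • k) ∈ Submodule.span ℤ (P.coroot '' hΔ.dual) := by
  rw [← hΔ.weylSub_eq] at hg
  obtain ⟨l, hl, rfl⟩ := exists_word P hg
  clear hg
  induction l with
  | nil => simpa using hk
  | cons a t ih =>
    have ha : a ∈ Δ := hl a List.mem_cons_self
    rw [List.map_cons, List.prod_cons, mul_smul, coroot_refl]
    refine sub_mem (ih fun x hx => hl x (List.mem_cons_of_mem a hx)) (Submodule.smul_mem _ _ ?_)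
    by_cases h : ∀ l, P.coroot a ≠ (2 : ℤ) • P.coroot l
    · exact Submodule.subset_span ⟨a, ⟨a, ha, .inl ⟨rfl, h⟩⟩, rfl⟩
    · simp only [not_forall, not_not] at h
      obtain ⟨j, hj⟩ := h
      rw [hj]
      exact Submodule.smul_mem _ _ (Submodule.subset_span ⟨j, ⟨a, ha, .inr hj.symm⟩, rfl⟩)

theorem coroot_mem_span_dual (k : ι) : P.coroot k ∈ Submodule.span ℤ (P.coroot '' hΔ.dual) := by
  haveI := Fintype.ofFinite ι
  have base : ∀ i ∈ Δ, P.coroot i ∈ Submodule.span ℤ (P.coroot '' hΔ.dual) := fun i hi => by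
    by_cases h : ∀ l, P.coroot i ≠ (2 : ℤ) • P.coroot l
    · exact Submodule.subset_span ⟨i, ⟨i, hi, .inl ⟨rfl, h⟩⟩, rfl⟩
    · simp only [not_forall, not_not] at h
      obtain ⟨j, hj⟩ := h
      rw [hj]
      exact Submodule.smul_mem _ _ (Submodule.subset_span ⟨j, ⟨i, hi, .inr hj.symm⟩, rfl⟩)
  by_cases h : ∃ j, P.root k = (2 : ℤ) • P.root j
  · obtain ⟨j, hj⟩ := h
    obtain ⟨g, hg, i, hi, e⟩ := hΔ.exists_weylSub_smul (k := j) fun l => indiv_of_double P hj
    have he : P.root (g⁻¹ • k) = (2 : ℤ) • P.root i := by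
      rw [root_smul, hj, smul_comm, ← root_smul, ← e, inv_smul_smul]
    have hm : g⁻¹ • k ∈ hΔ.dual := ⟨i, hi, .inr (two_smul_coroot_of_double P he).symm⟩
    have := hΔ.smul_mem_span_dual (weylSub_le P Δ hg) (Submodule.subset_span ⟨_, hm, rfl⟩)
    rwa [smul_inv_smul] at this
  · obtain ⟨g, hg, i, hi, e⟩ := hΔ.exists_weylSub_smul (k := k) (by simpa using h)
    exact e ▸ hΔ.smul_mem_span_dual (weylSub_le P Δ hg) (base i hi)

/-- `ℓ(k) k^v = ∑ c_a ℓ(a) a^v`. -/
theorem smul_coroot_coef [Fintype ι] (k : ι) :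
    q P k k • P.coroot k = ∑ a, (hΔ.coef k a * q P a a) • P.coroot a := by
  simp only [mul_smul, smul_coroot_eq]
  rw [← hΔ.comb_coef k, comb, Finsupp.linearCombination_apply,
    Finsupp.sum_fintype _ _ (fun i => zero_smul ℤ (P.root i)), map_sum, Finset.smul_sum]
  exact Finset.sum_congr rfl fun a _ => by rw [map_zsmul, smul_comm]

theorem linearIndepOn_coroot : LinearIndepOn ℤ P.coroot Δ := by
  classical
  haveI := Fintype.ofFinite ι
  rw [linearIndepOn_iff]
  intro d hd h0
  rw [Finsupp.mem_supported] at hd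
  let prd : ℤ := ∏ a, q P a a
  have hprd : prd ≠ 0 := Finset.prod_ne_zero_iff.2 fun a _ => (q_self_pos P a).ne'
  let e : ι →₀ ℤ := Finsupp.equivFunOnFinite.symm fun a => d a * (prd / q P a a)
  have hdvd : ∀ a, q P a a ∣ prd := fun a => Finset.dvd_prod_of_mem (fun a => q P a a) (Finset.mem_univ a)
  have h1 : (2 : ℤ) • P.Polarization (comb P e) = prd • Finsupp.linearCombination ℤ P.coroot d := by
    rw [comb, Finsupp.linearCombination_apply, Finsupp.linearCombination_apply,
      Finsupp.sum_fintype _ _ (fun i => zero_smul ℤ (P.root i)),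
      Finsupp.sum_fintype _ _ (fun i => zero_smul ℤ (P.coroot i)), map_sum, Finset.smul_sum, Finset.smul_sum]
    refine Finset.sum_congr rfl fun a _ => ?_
    rw [map_zsmul, smul_comm, ← smul_coroot_eq, smul_smul, smul_smul,
      show e a = d a * (prd / q P a a) from rfl, mul_assoc, Int.ediv_mul_cancel (hdvd a), mul_comm]
  rw [h0, smul_zero] at h1
  have h2 : comb P e = 0 := by
    refine polarization_injOn P ?_ (zsmul_coroot_eq_zero P two_ne_zero h1)
    rw [comb, Finsupp.linearCombination_apply]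
    exact Submodule.sum_mem _ fun i _ => Submodule.smul_of_tower_mem _ _ (Submodule.subset_span ⟨i, rfl⟩)
  have he : e = 0 := hΔ.comb_inj (fun a ha => hd (Finsupp.mem_support_iff.2 fun h => Finsupp.mem_support_iff.1 ha
    (show d a * _ = 0 by rw [h, zero_mul]))) (by simp) (by rw [h2, map_zero])
  ext a
  have h3 : d a * (prd / q P a a) = 0 := DFunLike.congr_fun he a
  refine (mul_eq_zero.1 h3).resolve_right fun h => hprd ?_
  rw [← Int.ediv_mul_cancel (hdvd a), h, zero_mul]

theorem linearIndepOn_dual : LinearIndepOn ℤ P.coroot hΔ.dual := by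
  classical
  haveI := Fintype.ofFinite ι
  let par : ι → ι := fun j => if j ∈ Δ ∧ ∀ l, P.coroot j ≠ (2 : ℤ) • P.coroot l then j else
    if h : ∃ i ∈ Δ, (2 : ℤ) • P.coroot j = P.coroot i then h.choose else j
  let w : ι → ℤ := fun j => if j ∈ Δ ∧ ∀ l, P.coroot j ≠ (2 : ℤ) • P.coroot l then 1 else 2
  have hp : ∀ j ∈ hΔ.dual, par j ∈ Δ ∧ P.coroot (par j) = w j • P.coroot j := fun j hj => by
    by_cases h : j ∈ Δ ∧ ∀ l, P.coroot j ≠ (2 : ℤ) • P.coroot l
    · simp only [par, w, if_pos h, one_smul, and_true]; exact h.1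
    · have h2 : ∃ i ∈ Δ, (2 : ℤ) • P.coroot j = P.coroot i := by
        obtain ⟨i, hi, ⟨rfl, hl⟩ | hj⟩ := hj
        · exact absurd ⟨hi, hl⟩ h
        · exact ⟨i, hi, hj⟩
      simp only [par, w, if_neg h, dif_pos h2]
      exact ⟨h2.choose_spec.1, h2.choose_spec.2.symm⟩
  have hinj : Set.InjOn par hΔ.dual := fun a ha b hb e => by
    obtain ⟨-, ea⟩ := hp a ha
    obtain ⟨-, eb⟩ := hp b hb
    rw [e, eb] at ea
    by_cases h : w a = w b
    · rw [h] at ea
      refine (P.coroot.injective (sub_eq_zero.1 (zsmul_coroot_eq_zero P (n := w b) ?_ (by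
        rw [smul_sub, ea, sub_self])))).symm
      simp only [w]; split <;> omega
    · exfalso
      simp only [w] at h ea
      split_ifs at h ea with ha' hb' hb'
      · exact h rfl
      · exact ha'.2 b (by rw [one_smul] at ea; exact ea.symm)
      · exact hb'.2 a (by rw [one_smul] at ea; exact ea)
      · exact h rfl
  rw [linearIndepOn_iff]
  intro c hc h0
  rw [Finsupp.mem_supported] at hc
  ext j
  by_cases hj : j ∈ hΔ.dual
  swap
  · exact Finsupp.notMem_support_iff.1 fun h => hj (hc h)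
  let dual' : Finset ι := Finset.univ.filter (· ∈ hΔ.dual)
  let d : ι →₀ ℤ := ∑ x ∈ dual', Finsupp.single (par x) (2 / w x * c x)
  have hd : ↑d.support ⊆ Δ := fun a ha => by
    by_contra hn
    refine Finsupp.mem_support_iff.1 ha ?_
    rw [Finsupp.finset_sum_apply]
    refine Finset.sum_eq_zero fun x hx => Finsupp.single_eq_of_ne fun e => hn ?_
    exact e ▸ (hp x (by simpa [dual'] using hx)).1
  have hsum : Finsupp.linearCombination ℤ P.coroot d = (2 : ℤ) • Finsupp.linearCombination ℤ P.coroot c := by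
    rw [map_sum, Finsupp.linearCombination_apply ℤ c, Finsupp.sum_fintype _ _ (fun i => zero_smul ℤ (P.coroot i)),
      ← Finset.sum_subset (Finset.subset_univ dual') (fun x _ hx => by
        rw [Finsupp.notMem_support_iff.1 fun h => hx (by simpa [dual'] using hc h), zero_smul]), Finset.smul_sum]
    refine Finset.sum_congr rfl fun x hx => ?_
    rw [Finsupp.linearCombination_single, (hp x (by simpa [dual'] using hx)).2, smul_smul, smul_smul]
    congr 1
    simp only [w]; split <;> ring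
  rw [h0, smul_zero] at hsum
  have hd0 : d = 0 := linearIndepOn_iff.1 hΔ.linearIndepOn_coroot d (by simpa [Finsupp.mem_supported] using hd) hsum
  have hj0 := DFunLike.congr_fun hd0 (par j)
  rw [Finsupp.finset_sum_apply, Finset.sum_eq_single_of_mem j (by simpa [dual'] using hj) (fun x hx hne =>
    Finsupp.single_eq_of_ne fun e => hne (hinj (by simpa [dual'] using hx) hj e.symm)), Finsupp.single_eq_same] at hj0
  refine (mul_eq_zero.1 hj0).resolve_left ?_
  simp only [w]; split <;> norm_num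

/-- A simple coroot is once or twice a member of the dual system. -/
theorem exists_dual_rep {a : ι} (ha : a ∈ Δ) :
    ∃ (j : ι) (t : ℤ), j ∈ hΔ.dual ∧ (t = 1 ∧ j = a ∧ (∀ l, P.coroot a ≠ (2 : ℤ) • P.coroot l) ∨ t = 2) ∧
      P.coroot a = t • P.coroot j := by
  by_cases h : ∀ l, P.coroot a ≠ (2 : ℤ) • P.coroot l
  · exact ⟨a, 1, ⟨a, ha, .inl ⟨rfl, h⟩⟩, .inl ⟨rfl, rfl, h⟩, (one_smul _ _).symm⟩
  · simp only [not_forall, not_not] at h
    obtain ⟨j, hj⟩ := h
    exact ⟨j, 2, ⟨a, ha, .inr hj.symm⟩, .inr rfl, hj⟩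

end IsSimple

theorem isPos_iff_mem_posOf [P.IsReduced] (b : P.Base) (i : ι) :
    b.IsPos i ↔ i ∈ RootD.posOf P (b.support : Set ι) := by
  have h1 : ∀ i, b.IsPos i → i ∈ RootD.posOf P (b.support : Set ι) := fun i hi =>
    Base.IsPos.induction_on_add (p := fun k => k ∈ RootD.posOf P (b.support : Set ι)) hi
      (fun k hk => root_mem_natSpan P hk) (fun a c k hk ha hc => by
        show P.root k ∈ RootD.natSpan P (b.support : Set ι)
        rw [hk]; exact add_mem ha (root_mem_natSpan P hc))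
  refine ⟨h1 i, fun h => ?_⟩
  by_contra hn
  exact (isSimple_base P b).isPosSys.disjoint h (h1 _ ((Base.IsPos.neg_iff_not b i).2 hn))

/-- The sum of the positive coroots takes the value two on simple roots. -/
theorem sum_pairing_pos_eq_two [Fintype ι] [P.IsReduced] {Δ : Set ι} [DecidablePred (· ∈ RootD.posOf P Δ)]
    (hΔ : IsSimple P Δ) {i : ι} (hi : i ∈ Δ) :
    ∑ k ∈ Finset.univ.filter (· ∈ RootD.posOf P Δ), P.pairingIn ℤ i k = 2 := by
  classical
  rw [← Finset.add_sum_erase _ _ (show i ∈ Finset.univ.filter (· ∈ RootD.posOf P Δ) by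
    simpa using hΔ.subset_posOf hi), RootPairing.pairingIn_same]
  suffices h : ∑ k ∈ (Finset.univ.filter (· ∈ RootD.posOf P Δ)).erase i, P.pairingIn ℤ i k = 0 by rw [h, add_zero]
  have hb := IsSimple.bijOn_refl P hΔ hi
  have hs : ∑ k ∈ (Finset.univ.filter (· ∈ RootD.posOf P Δ)).erase i, P.pairingIn ℤ i k =
      ∑ k ∈ (Finset.univ.filter (· ∈ RootD.posOf P Δ)).erase i, -P.pairingIn ℤ i k := by
    refine Finset.sum_bij (fun x _ => refl P i • x) (fun x hx => ?_) (fun x _ y _ h => MulAction.injective _ h)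
      (fun y hy => ?_) fun x _ => ?_
    · have := hb.mapsTo (show x ∈ RootD.posOf P Δ \ {i} by simpa [and_comm] using hx)
      simpa [and_comm] using this
    · obtain ⟨x, hx, he⟩ := hb.surjOn (show y ∈ RootD.posOf P Δ \ {i} by simpa [and_comm] using hy)
      exact ⟨x, by simpa [and_comm] using hx, he⟩
    · rw [refl_smul_idx, pairingIn_reflectionPerm, pairingIn_reflectionPerm_self_left, neg_neg]
  rw [Finset.sum_neg_distrib] at hs
  omega

end Groth.Agent.RootDLib
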