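import Groth.Agent.RootDLib.PosSys

/-! The Weyl group acting on systems of positive roots. -/

set_option autoImplicit false

open Function Set RootPairing

namespace Groth.Agent.RootDLib

variable {ι R M N : Type*} [CommRing R] [AddCommGroup M] [Module R M] [AddCommGroup N] [Module R N]
  (P : RootPairing ι R M N)

/-- The reflection automorphism. -/
noncomputable abbrev refl (i : ι) : P.Aut := Equiv.reflection P i

@[simp] theorem refl_smul_idx (i k : ι) : refl P i • k = P.reflectionPerm i k := rfl

theorem root_smul (g : P.Aut) (k : ι) : P.root (g • k) = g • P.root k := Equiv.root_indexEquiv_eq_smul P k g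

theorem aut_ext {g h : P.Aut} (H : ∀ x : M, g • x = h • x) : g = h :=
  Equiv.weightHom_injective P (LinearEquiv.ext H)

theorem refl_mul_self (i : ι) : refl P i * refl P i = 1 := mul_eq_one_iff_inv_eq.2 (Equiv.reflection_inv P i)

theorem refl_refl (i k : ι) : refl P i • refl P i • k = k := by rw [← mul_smul, refl_mul_self, one_smul]

@[simp] theorem refl_self (i : ι) : refl P i • i = ng P i := rfl

theorem smul_ng (g : P.Aut) (k : ι) : g • ng P k = ng P (g • k) :=
  P.root.injective (by rw [root_smul, root_ng, smul_neg, root_ng, root_smul])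

theorem coroot'_smul (g : P.Aut) (k : ι) (x : M) : P.coroot' (g • k) (g • x) = P.coroot' k x := by
  have h1 : P.toLinearMap (g.toHom.weightMap x) (P.coroot (g • k)) =
      P.toLinearMap x (g.toHom.coweightMap (P.coroot (g • k))) :=
    LinearMap.congr_fun (Hom.weight_coweight_transpose_apply P P (P.coroot (g • k)) g.toHom) x
  show P.toLinearMap (g.toHom.weightMap x) (P.coroot (g • k)) = P.toLinearMap x (P.coroot k)
  rw [h1, Hom.coroot_coweightMap_apply]
  exact congrArg (fun l => P.toLinearMap x (P.coroot l)) (Equiv.symm_apply_apply g.toHom.indexEquiv k)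

theorem conj_refl (g : P.Aut) (i : ι) : g * refl P i * g⁻¹ = refl P (g • i) := by
  refine aut_ext P fun x => ?_
  obtain ⟨y, rfl⟩ : ∃ y, g • y = x := ⟨g⁻¹ • x, smul_inv_smul g x⟩
  rw [mul_smul, mul_smul, inv_smul_smul, Equiv.reflection_smul, Equiv.reflection_smul, reflection_apply,
    reflection_apply, coroot'_smul, smul_sub, smul_comm g (P.coroot' i y), root_smul]

theorem refl_ng (i : ι) : refl P (ng P i) = refl P i := by
  refine aut_ext P fun x => ?_
  simp [reflection_apply, RootPairing.coroot']

/-- The group generated by the reflections in `Δ`. -/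
noncomputable abbrev weylSub (Δ : Set ι) : Subgroup P.Aut := Subgroup.closure (refl P '' Δ)

theorem weylSub_le (Δ : Set ι) : weylSub P Δ ≤ P.weylGroup :=
  (Subgroup.closure_le _).2 (by rintro _ ⟨i, _, rfl⟩; exact P.reflection_mem_weylGroup i)

theorem exists_word {Δ : Set ι} {g : P.Aut} (hg : g ∈ weylSub P Δ) :
    ∃ l : List ι, (∀ a ∈ l, a ∈ Δ) ∧ (l.map (refl P)).prod = g := by
  induction hg using Subgroup.closure_induction with
  | mem x hx =>
    obtain ⟨i, hi, rfl⟩ := hx
    exact ⟨[i], by simpa using hi, by simp⟩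
  | one => exact ⟨[], by simp, by simp⟩
  | mul x y _ _ hx hy =>
    obtain ⟨l, hl, rfl⟩ := hx
    obtain ⟨m, hm, rfl⟩ := hy
    exact ⟨l ++ m, by simpa [or_imp, forall_and] using ⟨hl, hm⟩, by simp⟩
  | inv x _ hx =>
    obtain ⟨l, hl, rfl⟩ := hx
    refine ⟨l.reverse, by simpa using hl, ?_⟩
    rw [List.prod_inv_reverse, List.map_map, ← List.map_reverse]
    congr 1
    exact List.map_congr_left fun a _ => (Equiv.reflection_inv P a).symm

variable [CharZero R] [IsDomain R] [P.IsCrystallographic] [Finite ι]

theorem root_refl (i k : ι) : P.root (refl P i • k) = P.root k - P.pairingIn ℤ k i • P.root i := by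
  rw [refl_smul_idx, root_reflectionPerm, reflection_apply_root, ← Int.cast_smul_eq_zsmul R,
    ← eq_intCast (algebraMap ℤ R), P.algebraMap_pairingIn]

theorem refl_eq_of_two {i k : ι} (h : P.root k = (2 : ℤ) • P.root i) : refl P k = refl P i := by
  haveI := Fintype.ofFinite ι
  have hp : ∀ l, P.pairingIn ℤ l i = 2 * P.pairingIn ℤ l k := fun l => by
    have hl : ∀ m, P.pairingIn ℤ k m = 2 * P.pairingIn ℤ i m := fun m => by
      apply Int.cast_injective (α := R)
      rw [Int.cast_mul, ← eq_intCast (algebraMap ℤ R), P.algebraMap_pairingIn, ← root_coroot'_eq_pairing, h,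
        map_zsmul, zsmul_eq_mul, root_coroot'_eq_pairing, ← P.algebraMap_pairingIn ℤ, eq_intCast]
    have hq : ∀ a, q P a k = 2 * q P a i := fun a => by
      simp only [q, hl, Finset.mul_sum]
      exact Finset.sum_congr rfl fun m _ => by ring
    have hqk : q P k k = 4 * q P i i := by
      simp only [q, hl, Finset.mul_sum]
      exact Finset.sum_congr rfl fun m _ => by ring
    have h1 := two_mul_q P l k
    rw [hq, hqk] at h1
    have h2 := two_mul_q P l i
    exact mul_right_cancel₀ (q_self_pos P i).ne' (by linarith)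
  have hperm : P.reflectionPerm k = P.reflectionPerm i := _root_.Equiv.ext fun l => P.root.injective <| by
    rw [← refl_smul_idx P, ← refl_smul_idx P, root_refl, root_refl, h, hp, smul_smul, mul_comm 2]
  have hc := P.pairing_smul_coroot_eq (i := k) (j := i) i hperm
  rw [pairing_same, ← P.algebraMap_pairingIn ℤ k i,
    show P.pairingIn ℤ k i = 4 by
      have := hp k
      have h2 := P.pairingIn_same ℤ k
      omega, map_ofNat] at hc
  refine aut_ext P fun x => ?_
  have hx : (4 : R) * P.coroot' k x = 2 * P.coroot' i x := by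
    have := congrArg (P.toLinearMap x) hc
    simpa [map_smul] using this
  rw [Equiv.reflection_smul, Equiv.reflection_smul, reflection_apply, reflection_apply, h,
    ← Int.cast_smul_eq_zsmul R, smul_smul]
  congr 2
  exact mul_left_cancel₀ two_ne_zero (by push_cast; linear_combination hx)

theorem indiv_of_double {j k l : ι} (h : P.root k = (2 : ℤ) • P.root j) : P.root j ≠ (2 : ℤ) • P.root l := by
  intro e
  have hk : P.root k = (4 : ℤ) • P.root l := by rw [h, e, smul_smul]; norm_num
  have hli : ¬ LinearIndependent R ![P.root l, P.root k] := fun hh => by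
    have := LinearIndependent.pair_iff.1 hh (4 : R) (-1)
      (by rw [hk, ← Int.cast_smul_eq_zsmul R 4, Int.cast_ofNat]; simp)
    simp at this
  have h0 : ∀ {n : ℤ}, n ≠ 0 → n • P.root l = 0 → False := fun hn h => P.ne_zero l (zsmul_eq_zero P hn h)
  rcases cases_of_not_linearIndependent P hli with c | c | c | c | c | c <;> rw [hk] at c
  · exact h0 (n := 3) (by norm_num) (by linear_combination (norm := module) c)
  · exact h0 (n := 5) (by norm_num) (by linear_combination (norm := module) c)
  · exact h0 (n := 2) (by norm_num) (by linear_combination (norm := module) c)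
  · exact h0 (n := 6) (by norm_num) (by linear_combination (norm := module) c)
  · exact h0 (n := 7) (by norm_num) (by linear_combination (norm := module) -c)
  · exact h0 (n := 9) (by norm_num) (by linear_combination (norm := module) c)

theorem indiv_smul {k : ι} (hk : ∀ j, P.root k ≠ (2 : ℤ) • P.root j) (g : P.Aut) (j : ι) :
    P.root (g • k) ≠ (2 : ℤ) • P.root j := fun e => hk (g⁻¹ • j) <| by
  have := congrArg (g⁻¹ • ·) e
  simp only [root_smul, inv_smul_smul] at this
  rw [this, root_smul, smul_comm g⁻¹ (2 : ℤ)]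

namespace IsSimple

variable {P} {Δ : Set ι} (hΔ : IsSimple P Δ)
include hΔ

theorem coef_refl {i : ι} (hi : i ∈ Δ) (k : ι) :
    hΔ.coef (refl P i • k) = hΔ.coef k - Finsupp.single i (P.pairingIn ℤ k i) := by
  classical
  refine hΔ.coef_eq ((Finset.coe_subset.2 Finsupp.support_sub).trans ?_) ?_
  · rw [Finset.coe_union]
    exact union_subset (hΔ.coef_support k)
      ((Finset.coe_subset.2 Finsupp.support_single_subset).trans (by simpa using hi))
  · rw [map_sub, hΔ.comb_coef, comb_single, root_refl]

theorem refl_mem_posOf {i k : ι} (hi : i ∈ Δ) (hk : k ∈ RootD.posOf P Δ) (h1 : k ≠ i)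
    (h2 : P.root k ≠ (2 : ℤ) • P.root i) : refl P i • k ∈ RootD.posOf P Δ := by
  classical
  by_cases hex : ∃ a, a ≠ i ∧ hΔ.coef k a ≠ 0
  · obtain ⟨a, hai, ha⟩ := hex
    have hpos : 0 < hΔ.coef k a := lt_of_le_of_ne (hΔ.mem_posOf_iff.1 hk a) (Ne.symm ha)
    rcases hΔ.coef_sign (refl P i • k) with h | h
    · exact hΔ.mem_posOf_iff.2 h
    · have := h a
      rw [hΔ.coef_refl hi, Finsupp.sub_apply, Finsupp.single_eq_of_ne hai, sub_zero] at this
      omega
  · simp only [not_exists, not_and, not_not] at hex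
    have hc : hΔ.coef k = Finsupp.single i (hΔ.coef k i) := Finsupp.ext fun a => by
      by_cases ha : a = i
      · simp [ha]
      · rw [Finsupp.single_eq_of_ne ha, hex a ha]
    set n := hΔ.coef k i with hn
    have hk' : P.root k = n • P.root i := by rw [← hΔ.comb_coef k, hc, comb_single]
    have hn0 : 0 ≤ n := hΔ.mem_posOf_iff.1 hk i
    have hli : ¬ LinearIndependent R ![P.root i, P.root k] := fun hh => by
      have := LinearIndependent.pair_iff.1 hh (n : R) (-1) (by rw [hk', Int.cast_smul_eq_zsmul]; simp)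
      simp at this
    have h0 : ∀ {m : ℤ}, m • P.root i = 0 → m = 0 := fun {m} h =>
      by_contra fun hm => P.ne_zero i (zsmul_eq_zero P hm h)
    rcases cases_of_not_linearIndependent P hli with c | c | c | c | c | c
    · exact absurd (P.root.injective c) h1
    · rw [hk'] at c
      have := h0 (m := n + 1) (by linear_combination (norm := module) c)
      omega
    · exact absurd c h2
    · rw [hk'] at c
      have := h0 (m := n + 2) (by linear_combination (norm := module) c)
      omega
    · rw [hk'] at c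
      have := h0 (m := 2 * n - 1) (by linear_combination (norm := module) -c)
      omega
    · rw [hk'] at c
      have := h0 (m := 2 * n + 1) (by linear_combination (norm := module) c)
      omega

omit [CharZero R] [IsDomain R] [P.IsCrystallographic] [Finite ι] in
theorem ng_mem_posOf_of_mem {i : ι} (hi : i ∈ Δ) : ng P (refl P i • i) ∈ RootD.posOf P Δ := by
  rw [refl_self, ng_ng]
  exact root_mem_natSpan P hi

theorem exists_pairing_pos {k : ι} (hk : k ∈ RootD.posOf P Δ) : ∃ i ∈ Δ, 0 < P.pairingIn ℤ k i := by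
  classical
  haveI := Fintype.ofFinite ι
  by_contra hne
  simp only [not_exists, not_and, not_lt] at hne
  have hkk : comb P (Finsupp.single k 1) = 0 := by
    refine comb_eq_zero_of_nonpos P (Finsupp.single k 1) (hΔ.coef k) (by simp [hΔ.comb_coef]) ?_
    refine Finset.sum_nonpos fun a _ => Finset.sum_nonpos fun j _ => ?_
    by_cases ha : a = k
    · subst ha
      by_cases hj : hΔ.coef a j = 0
      · simp [hj]
      have := (q_nonpos_iff P a j).2 (hne j (hΔ.coef_support a (Finsupp.mem_support_iff.2 hj)))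
      have := hΔ.mem_posOf_iff.1 hk j
      simp only [Finsupp.single_eq_same, one_mul]
      exact mul_nonpos_of_nonneg_of_nonpos this ‹_›
    · simp [Finsupp.single_eq_of_ne ha]
  exact P.ne_zero k (by simpa using hkk)

theorem exists_weylSub_smul {k : ι} (hk : ∀ j, P.root k ≠ (2 : ℤ) • P.root j) :
    ∃ g ∈ weylSub P Δ, ∃ i ∈ Δ, g • i = k := by
  classical
  suffices H : ∀ n : ℕ, ∀ k, k ∈ RootD.posOf P Δ → ((hΔ.coef k).sum fun _ a => a) < n →
      (∀ j, P.root k ≠ (2 : ℤ) • P.root j) → ∃ g ∈ weylSub P Δ, ∃ i ∈ Δ, g • i = k by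
    rcases hΔ.isPosSys.cover k with h | h
    · exact H (((hΔ.coef k).sum fun _ a => a).toNat + 1) k h (by omega) hk
    · have hn : ∀ j, P.root (ng P k) ≠ (2 : ℤ) • P.root j := fun j e => hk (ng P j) <| by
        rw [root_ng, smul_neg, ← e, root_ng, neg_neg]
      have h' : ng P k ∈ RootD.posOf P Δ := h
      obtain ⟨g, hg, i, hi, he⟩ := H (((hΔ.coef (ng P k)).sum fun _ a => a).toNat + 1) (ng P k) h' (by omega) hn
      refine ⟨g * refl P i, mul_mem hg (Subgroup.subset_closure ⟨i, hi, rfl⟩), i, hi, ?_⟩
      rw [mul_smul, refl_self, smul_ng, he, ng_ng]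
  intro n
  induction n with
  | zero =>
    intro k hk h
    have := hΔ.coef_sum_pos hk
    omega
  | succ n ih =>
    intro k hk hlt hind
    by_cases hkΔ : k ∈ Δ
    · exact ⟨1, one_mem _, k, hkΔ, one_smul _ k⟩
    obtain ⟨i, hi, hp⟩ := hΔ.exists_pairing_pos hk
    have hk' := hΔ.refl_mem_posOf hi hk (fun e => hkΔ (e ▸ hi)) (hind i)
    have hs : ((hΔ.coef (refl P i • k)).sum fun _ a => a) = ((hΔ.coef k).sum fun _ a => a) - P.pairingIn ℤ k i := by
      rw [hΔ.coef_refl hi, Finsupp.sum_sub_index (h := fun _ a => a) (fun _ _ _ => rfl), Finsupp.sum_single_index rfl]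
    obtain ⟨g, hg, j, hj, he⟩ := ih _ hk' (by omega) (indiv_smul P hind _)
    exact ⟨refl P i * g, mul_mem (Subgroup.subset_closure ⟨i, hi, rfl⟩) hg, j, hj, by rw [mul_smul, he, refl_refl]⟩

theorem refl_mem_weylSub (k : ι) : refl P k ∈ weylSub P Δ := by
  have main : ∀ k, (∀ j, P.root k ≠ (2 : ℤ) • P.root j) → refl P k ∈ weylSub P Δ := fun k hk => by
    obtain ⟨g, hg, i, hi, rfl⟩ := hΔ.exists_weylSub_smul hk
    rw [← conj_refl]
    exact mul_mem (mul_mem hg (Subgroup.subset_closure ⟨i, hi, rfl⟩)) (inv_mem hg)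
  by_cases h : ∃ j, P.root k = (2 : ℤ) • P.root j
  · obtain ⟨j, hj⟩ := h
    rw [refl_eq_of_two P hj]
    exact main j fun l => indiv_of_double P hj
  · exact main k (by simpa using h)

theorem weylSub_eq : weylSub P Δ = P.weylGroup :=
  le_antisymm (weylSub_le P Δ) ((Subgroup.closure_le _).2 (by rintro _ ⟨i, rfl⟩; exact hΔ.refl_mem_weylSub i))

theorem deletion : ∀ (l : List ι), (∀ a ∈ l, a ∈ Δ) → ∀ i ∈ Δ, (l.map (refl P)).prod • i ∉ RootD.posOf P Δ →
    ∃ l' : List ι, (∀ a ∈ l', a ∈ Δ) ∧ l'.length + 1 = l.length ∧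
      (l'.map (refl P)).prod = (l.map (refl P)).prod * refl P i := by
  intro l
  induction l with
  | nil => intro _ i hi h; exact absurd (show i ∈ RootD.posOf P Δ from root_mem_natSpan P hi) (by simpa using h)
  | cons a t ih =>
    intro hl i hi h
    have ht : ∀ b ∈ t, b ∈ Δ := fun b hb => hl b (List.mem_cons_of_mem a hb)
    by_cases hq : (t.map (refl P)).prod • i ∈ RootD.posOf P Δ
    · refine ⟨t, ht, rfl, ?_⟩
      rw [List.map_cons, List.prod_cons, mul_smul] at h
      have e : (t.map (refl P)).prod • i = a := by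
        by_contra hne
        exact h (hΔ.refl_mem_posOf (hl a List.mem_cons_self) hq hne (indiv_smul P (hΔ.indiv hi) _ a))
      rw [List.map_cons, List.prod_cons, ← e, ← conj_refl]
      simp only [inv_mul_cancel, mul_one, mul_assoc, refl_mul_self, inv_mul_cancel_left]
    · obtain ⟨l', hl', hlen, he⟩ := ih ht i hi hq
      refine ⟨a :: l', ?_, by simp [hlen], by simp [he, mul_assoc]⟩
      intro b hb
      rcases List.mem_cons.1 hb with rfl | hb
      · exact hl b List.mem_cons_self
      · exact hl' b hb

theorem not_pos_last (l : List ι) (hl : ∀ a ∈ l, a ∈ Δ) (hne : l ≠ [])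
    (hmin : ∀ l' : List ι, (∀ a ∈ l', a ∈ Δ) → (l'.map (refl P)).prod = (l.map (refl P)).prod → l.length ≤ l'.length) :
    (l.map (refl P)).prod • l.getLast hne ∉ RootD.posOf P Δ := by
  intro hpos
  obtain ⟨t, i, rfl⟩ : ∃ t i, l = t ++ [i] := ⟨l.dropLast, l.getLast hne, (List.dropLast_append_getLast hne).symm⟩
  rw [List.getLast_append_singleton, List.map_append, List.prod_append, List.map_singleton, List.prod_singleton,
    mul_smul, refl_self, smul_ng] at hpos
  obtain ⟨l', hl', hlen, he⟩ := hΔ.deletion t (fun a ha => hl a (List.mem_append_left _ ha)) i (hl i (by simp))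
    fun h => hΔ.isPosSys.disjoint h hpos
  have := hmin l' hl' (by simp [he])
  simp at this
  omega

theorem eq_one_of_mapsTo {g : P.Aut} (hg : g ∈ P.weylGroup) (h : ∀ i ∈ Δ, g • i ∈ RootD.posOf P Δ) : g = 1 := by
  classical
  rw [← hΔ.weylSub_eq] at hg
  have hex : ∃ n, ∃ l : List ι, (∀ a ∈ l, a ∈ Δ) ∧ (l.map (refl P)).prod = g ∧ l.length = n := by
    obtain ⟨l, hl, e⟩ := exists_word P hg
    exact ⟨_, l, hl, e, rfl⟩
  obtain ⟨l, hl, e, hn⟩ := Nat.find_spec hex
  rcases eq_or_ne l [] with rfl | hne
  · simpa using e.symm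
  · refine absurd (h _ (hl _ (List.getLast_mem hne))) ?_
    rw [← e]
    refine hΔ.not_pos_last l hl hne fun l' hl' e' => ?_
    exact hn.symm ▸ Nat.find_min' hex ⟨l', hl', e'.trans e, rfl⟩

theorem eq_one_of_fix {g : P.Aut} (hg : g ∈ P.weylGroup) (h : ∀ i : ι, g • i = i) : g = 1 :=
  hΔ.eq_one_of_mapsTo hg fun i hi => by rw [h]; exact root_mem_natSpan P hi

end IsSimple

theorem exists_weyl_image_subset {S P' : Set ι} (hS : RootD.IsPosSys P S)
    (hP2 : ∀ i : ι, i ∈ P' ∨ P.reflectionPerm i i ∈ P') (hcl : RootD.IsClosedSub P P') :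
    ∃ g ∈ P.weylGroup, ∀ k ∈ S, g • k ∈ P' := by
  suffices H : ∀ n : ℕ, ∀ T : Set ι, (∀ i, i ∈ T ∨ ng P i ∈ T) → RootD.IsClosedSub P T → (S \ T).ncard = n →
      ∃ g ∈ P.weylGroup, ∀ k ∈ S, g • k ∈ T from H _ P' hP2 hcl rfl
  intro n
  induction n using Nat.strong_induction_on with
  | _ n ih =>
    intro T h2 hc hn
    have hΔ := isSimple_simples hS
    by_cases hsub : simples P S ⊆ T
    · refine ⟨1, one_mem _, fun k hk => ?_⟩
      rw [one_smul]
      exact mem_of_closed P hc (natSpan_mono P hsub (mem_natSpan_simples hS hk))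
    · obtain ⟨i, hi, hiT⟩ := not_subset.1 hsub
      let T' : Set ι := (refl P i • ·) ⁻¹' T
      have hmono : S \ T' ⊆ (refl P i • ·) '' ((S \ T) \ {i}) := by
        rintro k ⟨hk, hkT⟩
        refine ⟨refl P i • k, ⟨⟨?_, hkT⟩, ?_⟩, refl_refl P i k⟩
        · have hni : k ≠ i := by
            rintro rfl
            exact hkT ((h2 k).resolve_left hiT)
          have hn2 : P.root k ≠ (2 : ℤ) • P.root i := fun e => by
            refine hkT ?_
            show refl P i • k ∈ T
            refine hc ((h2 i).resolve_left hiT) ((h2 i).resolve_left hiT) ?_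
            rw [root_smul, e, smul_comm, Equiv.reflection_smul, reflection_apply_self, two_smul]
            show _ = P.root (ng P i) + P.root (ng P i)
            rw [root_ng]
          have hkS : k ∈ RootD.posOf P (simples P S) := mem_natSpan_simples hS hk
          exact mem_of_natSpan hS (natSpan_mono P (simples_subset P S) (hΔ.refl_mem_posOf hi hkS hni hn2))
        · intro (e : refl P i • k = i)
          have : k = ng P i := by rw [← refl_refl P i k, e, refl_self]
          exact hS.disjoint hi.1 (show ng P i ∈ S from this ▸ hk)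
      have hlt : (S \ T').ncard < n := by
        have h1 := (Set.ncard_le_ncard hmono).trans (Set.ncard_image_le (Set.toFinite _))
        have h2 := Set.ncard_sdiff_singleton_lt_of_mem (s := S \ T) ⟨hi.1, hiT⟩
        omega
      obtain ⟨g, hg, hgS⟩ := ih _ hlt T' (fun k => by
          show refl P i • k ∈ T ∨ refl P i • ng P k ∈ T
          rw [smul_ng]
          exact h2 _)
        (fun a b k ha hb e => hc ha hb (by rw [root_smul, root_smul, root_smul, e, smul_add])) rfl
      exact ⟨refl P i * g, mul_mem (P.reflection_mem_weylGroup i) hg, fun k hk => by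
        rw [mul_smul]; exact hgS k hk⟩

end Groth.Agent.RootDLib
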