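import Groth.Agent.RootDLib.Weyl

/-! Bridges: integral root data, bases, existence and transitivity of positive systems. -/

set_option autoImplicit false

open Function Set RootPairing

namespace Groth.Agent.RootDLib

section Z

variable {ι M N : Type*} [AddCommGroup M] [AddCommGroup N] (P : RootPairing ι ℤ M N)

example : P.IsCrystallographic := inferInstance

theorem pairingIn_eq (i j : ι) : P.pairingIn ℤ i j = P.pairing i j := by
  simpa using P.algebraMap_pairingIn ℤ i j

theorem isSimple_iff {Δ : Set ι} : IsSimple P Δ ↔ RootD.IsSimpleSys P Δ :=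
  ⟨fun h => ⟨h.1, h.2⟩, fun h => ⟨h.1, h.2⟩⟩

theorem isIndiv_iff {i : ι} : RootD.IsIndiv P i ↔ ∀ j, P.root i ≠ (2 : ℤ) • P.root j :=
  forall_congr' fun _ => ne_comm

end Z

variable {ι R M N : Type*} [CommRing R] [AddCommGroup M] [Module R M] [AddCommGroup N] [Module R N]
  (P : RootPairing ι R M N)

theorem image_smul_isPosSys {S : Set ι} (hS : RootD.IsPosSys P S) (g : P.Aut) :
    RootD.IsPosSys P ((g • ·) '' S) := by
  refine ⟨?_, fun i => ?_, fun k n hn h => ?_⟩
  · rintro _ ⟨a, ha, rfl⟩ ⟨b, hb, e⟩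
    have : b = ng P a := MulAction.injective g (by show g • b = g • ng P a; rw [smul_ng]; exact e)
    exact hS.disjoint ha (show ng P a ∈ S from this ▸ hb)
  · rcases hS.cover (g⁻¹ • i) with h | h
    · exact .inl ⟨_, h, smul_inv_smul g i⟩
    · exact .inr ⟨ng P (g⁻¹ • i), h, by show g • ng P (g⁻¹ • i) = ng P i; rw [smul_ng, smul_inv_smul]⟩
  · refine ⟨g⁻¹ • k, hS.sat n hn ?_, smul_inv_smul g k⟩
    have hmap : ∀ x ∈ RootD.natSpan P ((g • ·) '' S), g⁻¹ • x ∈ RootD.natSpan P S := fun x hx => by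
      induction hx using AddSubmonoid.closure_induction with
      | mem y hy =>
        obtain ⟨_, ⟨a, ha, rfl⟩, rfl⟩ := hy
        rw [root_smul, inv_smul_smul]
        exact root_mem_natSpan P ha
      | zero => simp
      | add y z _ _ hy hz => rw [smul_add]; exact add_mem hy hz
    rw [root_smul, ← smul_comm]
    exact hmap _ h

variable [CharZero R] [IsDomain R] [P.IsCrystallographic]

theorem isPosSys_of_hom {G : Type*} [AddCommGroup G] [PartialOrder G] [IsOrderedAddMonoid G] (φ : M →+ G)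
    (hφ : ∀ i : ι, 0 < φ (P.root i) ∨ φ (P.root i) < 0) : RootD.IsPosSys P {i : ι | 0 < φ (P.root i)} := by
  refine ⟨fun i hi hi' => ?_, fun i => (hφ i).imp id fun h => ?_, fun k n hn h => ?_⟩
  · have : 0 < φ (P.root (ng P i)) := hi'
    rw [root_ng, map_neg, neg_pos] at this
    exact lt_asymm hi this
  · show 0 < φ (P.root (ng P i))
    rw [root_ng, map_neg, neg_pos]; exact h
  · have hle : ∀ x ∈ RootD.natSpan P {i : ι | 0 < φ (P.root i)}, 0 ≤ φ x := fun x hx => by
      induction hx using AddSubmonoid.closure_induction with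
      | mem y hy => obtain ⟨a, ha, rfl⟩ := hy; exact le_of_lt ha
      | zero => simp
      | add y z _ _ hy hz => rw [map_add]; exact add_nonneg hy hz
    refine (hφ k).resolve_right fun hneg => ?_
    have h1 := hle _ h
    rw [map_nsmul] at h1
    exact absurd h1 (not_le_of_gt (nsmul_neg hneg hn.ne'))

variable [Finite ι]

theorem isSimple_base [P.IsReduced] (b : P.Base) : IsSimple P (b.support : Set ι) where
  linInd := b.linearIndepOn_root.restrict_scalars' ℤ
  mem_or_neg := b.root_mem_or_neg_mem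

theorem exists_isPosSys_int {ι M N : Type*} [AddCommGroup M] [AddCommGroup N] (P : RootPairing ι ℤ M N) [Finite ι] :
    ∃ S : Set ι, RootD.IsPosSys P S := by
  classical
  haveI := Fintype.ofFinite ι
  obtain ⟨v, hv⟩ : ∃ v : N, ∀ i, P.toLinearMap (P.root i) v ≠ 0 := by
    suffices H : ∀ s : Finset ι, ∃ v : N, ∀ i ∈ s, P.toLinearMap (P.root i) v ≠ 0 by
      obtain ⟨v, hv⟩ := H Finset.univ
      exact ⟨v, fun i => hv i (Finset.mem_univ i)⟩
    intro s
    induction s using Finset.induction_on with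
    | empty => exact ⟨0, by simp⟩
    | insert a s has ih =>
      obtain ⟨v, hv⟩ := ih
      let bad : Finset ℤ := s.biUnion (fun i => {-(P.toLinearMap (P.root i) v) / P.toLinearMap (P.root i) (P.coroot a)}) ∪
        {-(P.toLinearMap (P.root a) v) / 2}
      obtain ⟨t, ht⟩ := Infinite.exists_notMem_finset bad
      simp only [bad, Finset.mem_union, Finset.mem_biUnion, Finset.mem_singleton, not_or, not_exists, not_and] at ht
      refine ⟨v + t • P.coroot a, fun i hi => ?_⟩
      rw [map_add, map_zsmul, smul_eq_mul]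
      intro h0
      rcases Finset.mem_insert.1 hi with rfl | hi
      · have h2 : P.toLinearMap (P.root i) (P.coroot i) = 2 := P.root_coroot_two i
        rw [h2] at h0
        exact ht.2 (by omega)
      · by_cases hd : P.toLinearMap (P.root i) (P.coroot a) = 0
        · rw [hd] at h0; exact hv i hi (by simpa using h0)
        · refine ht.1 i hi ?_
          rw [show -(P.toLinearMap (P.root i) v) = t * P.toLinearMap (P.root i) (P.coroot a) by linarith,
            Int.mul_ediv_cancel _ hd]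
  exact ⟨_, isPosSys_of_hom P ((P.toLinearMap.flip v).toAddMonoidHom) fun i => (lt_or_gt_of_ne (hv i)).symm⟩

theorem exists_weyl_image_eq {S S' : Set ι} (hS : RootD.IsPosSys P S) (hS' : RootD.IsPosSys P S') :
    ∃ g : P.Aut, g ∈ P.weylGroup ∧ (fun i : ι => g • i) '' S = S' := by
  obtain ⟨g, hg, h⟩ := exists_weyl_image_subset P hS hS'.cover fun i j k hi hj e => mem_add hS' hi hj e
  refine ⟨g, hg, subset_antisymm (by rintro _ ⟨k, hk, rfl⟩; exact h k hk) fun k hk => ⟨g⁻¹ • k, ?_, smul_inv_smul g k⟩⟩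
  by_contra hn
  have h' : g • ng P (g⁻¹ • k) ∈ S' := h _ ((ng_mem_iff hS).2 hn)
  rw [smul_ng, smul_inv_smul] at h'
  exact hS'.disjoint hk h'

theorem image_simples {S : Set ι} (g : P.Aut) :
    (g • ·) '' simples P S = simples P ((g • ·) '' S) := by
  ext k
  constructor
  · rintro ⟨a, ⟨ha, hn⟩, rfl⟩
    refine ⟨⟨a, ha, rfl⟩, ?_⟩
    rintro ⟨_, _, ⟨i, hi, rfl⟩, ⟨j, hj, rfl⟩, e⟩
    refine hn ⟨i, j, hi, hj, ?_⟩
    simp only [root_smul, ← smul_add] at e
    exact MulAction.injective g e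
  · rintro ⟨⟨a, ha, rfl⟩, hn⟩
    refine ⟨a, ⟨ha, ?_⟩, rfl⟩
    rintro ⟨i, j, hi, hj, e⟩
    exact hn ⟨g • i, g • j, ⟨i, hi, rfl⟩, ⟨j, hj, rfl⟩, by rw [root_smul, e, smul_add, root_smul, root_smul]⟩

/-- The Weyl group is simply transitive on simple systems. -/
theorem existsUnique_weyl_image {Δ Δ' : Set ι} (hΔ : IsSimple P Δ) (hΔ' : IsSimple P Δ') :
    ∃! g : P.weylGroup, (fun i : ι => (g : P.Aut) • i) '' Δ = Δ' := by
  obtain ⟨g, hg, he⟩ := exists_weyl_image_eq P hΔ.isPosSys hΔ'.isPosSys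
  have hgΔ : (g • ·) '' Δ = Δ' := by
    conv_lhs => rw [← hΔ.simples_posOf]
    rw [image_simples, he, hΔ'.simples_posOf]
  refine ⟨⟨g, hg⟩, hgΔ, ?_⟩
  rintro ⟨h, hh⟩ (e : (h • ·) '' Δ = Δ')
  refine Subtype.ext (inv_mul_eq_one.1 ?_).symm
  refine hΔ.eq_one_of_mapsTo (mul_mem (inv_mem hg) hh) fun i hi => ?_
  have : h • i ∈ (g • ·) '' Δ := hgΔ ▸ e ▸ ⟨i, hi, rfl⟩
  obtain ⟨a, ha, hea⟩ := this
  rw [mul_smul, ← show g • a = h • i from hea, inv_smul_smul]
  exact root_mem_natSpan P ha

end Groth.Agent.RootDLib
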